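import Cfsg.Agent.J1Order38.Model
import Cfsg.Agent.J1Order38.Cent
import Cfsg.Agent.J1Order38.Setup

/-!
A simple group with Sylow 2-subgroups of order eight and an involution centraliser `C₂ × A₅`:
the normaliser of a Sylow 2-subgroup, and the fusion of involutions.
-/

set_option autoImplicit false
set_option linter.style.haveILetI false

namespace Cfsg.Agent.J1Cent38

open Subgroup J1Order38 J1Order38.Model Cert

/-- An involution centraliser isomorphic to the model, with small Sylow 2-subgroups. -/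
structure Hyp (G : Type*) [Group G] where
  t : G
  ord : orderOf t = 2
  e : centralizer ({t} : Set G) ≃* HM
  two : ∀ T : Sylow 2 G, Nat.card (T : Subgroup G) = 8

set_option maxRecDepth 100000 in
theorem center_HM : ∀ z : HM, (∀ w : HM, z * w = w * z) → z = 1 ∨ z = g0 3 := by decide +kernel

set_option maxRecDepth 100000 in
theorem HM_not_comm : ¬ g0 0 * g0 2 = g0 2 * g0 0 := by decide +kernel

set_option maxRecDepth 100000 in
theorem orbit_check : ∀ O : Finset (Fin 8), 1 ∈ O → 0 ∉ O → (∀ v ∈ O, beta v ∈ O) → O.card % 2 = 1 →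
    O = {1} ∨ O = Finset.univ.erase 0 := by decide +kernel

set_option maxRecDepth 100000 in
theorem stab_even : ∀ z : HM, ∀ v w : Fin 8, z * sv v * z⁻¹ = sv w → (vadd v w).val % 2 = 0 := by
  decide +kernel

variable {G : Type*} [Group G] (D : Hyp G)

/-- The embedding of the model. -/
def Hyp.ι : HM →* G := (centralizer ({D.t} : Set G)).subtype.comp D.e.symm.toMonoidHom

theorem Hyp.ι_injective : Function.Injective D.ι :=
  (centralizer ({D.t} : Set G)).subtype_injective.comp D.e.symm.injective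

theorem Hyp.ι_t : D.ι (g0 3) = D.t := by
  set t' : centralizer ({D.t} : Set G) := ⟨D.t, self_mem_cent D.t⟩ with ht'
  have hc : ∀ w : HM, D.e t' * w = w * D.e t' := by
    intro w
    obtain ⟨c, rfl⟩ := D.e.surjective w
    rw [← map_mul, ← map_mul]
    exact congrArg D.e (Subtype.ext (mem_cent_iff.1 c.2).symm)
  rcases center_HM _ hc with h | h
  · exfalso
    rw [map_eq_one_iff D.e D.e.injective] at h
    have := congrArg Subtype.val h
    have h2 := D.ord
    rw [show D.t = 1 from this, orderOf_one] at h2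
    omega
  · show ((D.e.symm (g0 3) : centralizer ({D.t} : Set G)) : G) = D.t
    rw [← h, D.e.symm_apply_apply]

theorem Hyp.ι_ord : orderOf (D.ι (g0 3)) = 2 := by rw [D.ι_t, D.ord]

theorem Hyp.ι_range : D.ι.range = centralizer ({D.ι (g0 3)} : Set G) := by
  rw [D.ι_t, Hyp.ι, MonoidHom.range_comp, MonoidHom.range_eq_top.2 D.e.symm.surjective,
    ← MonoidHom.range_eq_map, Subgroup.range_subtype]

include D in
theorem not_comm : ¬ IsMulCommutative G := fun h =>
  HM_not_comm (D.ι_injective (by rw [map_mul, map_mul]; exact h.is_comm.comm _ _))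

theorem sImage_mul_self {ι : HM →* G} {x : G} (hx : x ∈ sImage ι) : x * x = 1 := by
  obtain ⟨v, rfl⟩ := hx
  rw [← map_mul, ← sv_add, show vadd v v = 0 from (by revert v; decide +kernel),
    show sv 0 = 1 from rfl, map_one]

variable [Finite G]

theorem Hyp.exists_sylow : ∃ T : Sylow 2 G, (T : Subgroup G) = sImage D.ι := by
  haveI : Fact (Nat.Prime 2) := ⟨Nat.prime_two⟩
  obtain ⟨T, hT⟩ := (IsPGroup.of_card (n := 3) (by rw [card_sImage D.ι_injective]; norm_num) :
    IsPGroup 2 (sImage D.ι)).exists_le_sylow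
  exact ⟨T, (eq_of_le_of_card_ge hT (by rw [D.two T, card_sImage D.ι_injective])).symm⟩

include D in
theorem residual_top [IsSimpleGroup G] : pResidual 2 G = ⊤ := by
  haveI hn : (pResidual 2 G).Normal := by
    refine ⟨fun m hm g => ?_⟩
    have h1 : ((pResidual 2 G).map (MulAut.conj g).toMonoidHom) = pResidual 2 G :=
      Transfer.map_pResidual_equiv _
    rw [← h1]
    exact ⟨m, hm, rfl⟩
  refine hn.eq_bot_or_eq_top.resolve_left fun h => ?_
  have hb : orderOf (D.ι (g0 1)) = 3 := by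
    rw [orderOf_injective _ D.ι_injective]
    rcases (Nat.dvd_prime (by norm_num : Nat.Prime 3)).1 g0_orders.1 with h | h
    · exact absurd (orderOf_eq_one_iff.1 h) g0_orders.2.1
    · exact h
  have h2 : D.ι (g0 1) ∈ pResidual 2 G := Transfer.mem_pResidual_of_coprime (by rw [hb]; norm_num)
  rw [h, mem_bot] at h2
  simp [h2] at hb

/-- The normaliser of the elementary abelian Sylow subgroup has order 168 and moves the seven
involutions transitively. -/
theorem Hyp.normalizer_sImage [IsSimpleGroup G] :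
    Nat.card (normalizer ((sImage D.ι : Subgroup G) : Set G)) = 168 ∧
      ∀ v : Fin 8, v ≠ 0 → ∃ n ∈ normalizer ((sImage D.ι : Subgroup G) : Set G),
        n * D.ι (g0 3) * n⁻¹ = D.ι (sv v) := by
  classical
  haveI : Fact (Nat.Prime 2) := ⟨Nat.prime_two⟩
  set ι := D.ι with hιdef
  have hι : Function.Injective ι := D.ι_injective
  have hT := D.ι_ord
  have hr := D.ι_range
  obtain ⟨T, hTS⟩ := D.exists_sylow
  set S := sImage ι
  set N := normalizer ((S : Subgroup G) : Set G) with hN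
  set H := centralizer ({ι (g0 3)} : Set G)
  set K := (N ⊓ H).subgroupOf N with hK
  let O : Finset (Fin 8) := Finset.univ.filter fun v => ∃ n ∈ N, n * ι (sv 1) * n⁻¹ = ι (sv v)
  have hv : ∀ n : N, ∃ v : {v : Fin 8 // v ∈ O}, ι (sv v.1) = (n : G) * ι (sv 1) * (n : G)⁻¹ := fun n => by
    obtain ⟨v, hv⟩ := (mem_normalizer_iff.1 n.2 (ι (sv 1))).1 ⟨1, rfl⟩
    exact ⟨⟨v, Finset.mem_filter.2 ⟨Finset.mem_univ _, n, n.2, hv.symm⟩⟩, hv⟩
  choose φ hφ using hv
  have hφeq : ∀ n m : N, φ n = φ m ↔ (n : G)⁻¹ * m ∈ H := by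
    intro n m
    have hiff : φ n = φ m ↔ (n : G) * ι (sv 1) * (n : G)⁻¹ = (m : G) * ι (sv 1) * (m : G)⁻¹ := by
      rw [← hφ n, ← hφ m]
      exact ⟨fun h => by rw [h], fun h => Subtype.ext (sv_inj _ _ (hι h))⟩
    rw [hiff, sv_one, mem_cent_iff]
    constructor
    · intro h
      calc (n : G)⁻¹ * m * ι (g0 3) = (n : G)⁻¹ * ((m : G) * ι (g0 3) * (m : G)⁻¹) * m := by group
        _ = (n : G)⁻¹ * ((n : G) * ι (g0 3) * (n : G)⁻¹) * m := by rw [h]
        _ = ι (g0 3) * ((n : G)⁻¹ * m) := by group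
    · intro h
      calc (n : G) * ι (g0 3) * (n : G)⁻¹ = (n : G) * (ι (g0 3) * ((n : G)⁻¹ * m)) * (m : G)⁻¹ := by group
        _ = (n : G) * (((n : G)⁻¹ * m) * ι (g0 3)) * (m : G)⁻¹ := by rw [h]
        _ = (m : G) * ι (g0 3) * (m : G)⁻¹ := by group
  let f : N ⧸ K → {v : Fin 8 // v ∈ O} := fun q => Quotient.liftOn' q φ fun n m hnm => by
    rw [QuotientGroup.leftRel_apply] at hnm
    exact (hφeq n m).2 hnm.2
  have hbij : Function.Bijective f := by
    constructor
    · intro p q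
      induction p using QuotientGroup.induction_on with
      | H n => induction q using QuotientGroup.induction_on with
        | H m =>
          intro h
          rw [QuotientGroup.eq, hK, mem_subgroupOf]
          exact ⟨(n⁻¹ * m : N).2, (hφeq n m).1 h⟩
    · rintro ⟨w, hw⟩
      obtain ⟨n, hn, hne⟩ := (Finset.mem_filter.1 hw).2
      refine ⟨QuotientGroup.mk (⟨n, hn⟩ : N), Subtype.ext (sv_inj _ _ (hι ?_))⟩
      show ι (sv (φ ⟨n, hn⟩).1) = ι (sv w)
      rw [hφ ⟨n, hn⟩, ← hne]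
  have hidx : K.index = O.card := by
    rw [index, Nat.card_congr (Equiv.ofBijective f hbij), Nat.card_eq_fintype_card, Fintype.card_coe]
  have hzN : ∀ z : HM, (∀ v : Fin 8, ∃ w : Fin 8, z * sv v * z⁻¹ = sv w) → ι z ∈ N := by
    intro z hz
    rw [hN, mem_normalizer_iff_map_conj_eq]
    refine eq_of_le_of_card_ge ?_ (by rw [card_map_of_injective (MulAut.conj (ι z)).injective])
    rintro _ ⟨_, ⟨v, rfl⟩, rfl⟩
    obtain ⟨w, hw⟩ := hz v
    exact ⟨w, by rw [← hw, map_mul, map_mul, map_inv]; rfl⟩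
  have h24 : Nat.card K = 24 := by
    rw [hK, Nat.card_congr (subgroupOfEquivOfLe inf_le_left).toEquiv, ← norm_card, ← Fintype.card_subtype,
      ← Nat.card_eq_fintype_card]
    refine (Nat.card_congr (Equiv.ofBijective
      (fun z : {z : HM // ∀ v : Fin 8, ∃ w : Fin 8, z * sv v * z⁻¹ = sv w} =>
        (⟨ι z.1, hzN z.1 z.2, ?_⟩ : (N ⊓ H : Subgroup G))) ⟨?_, ?_⟩)).symm
    · rw [show H = ι.range from hr.symm]
      exact ⟨z.1, rfl⟩
    · intro z z' h
      exact Subtype.ext (hι (congrArg (fun x : (N ⊓ H : Subgroup G) => (x : G)) h :))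
    · rintro ⟨x, hxN, hxH⟩
      rw [show H = ι.range from hr.symm] at hxH
      obtain ⟨z, rfl⟩ := hxH
      refine ⟨⟨z, fun v => ?_⟩, rfl⟩
      obtain ⟨w, hw⟩ := (mem_normalizer_iff.1 hxN (ι (sv v))).1 ⟨v, rfl⟩
      exact ⟨w, hι (by rw [hw, map_mul, map_mul, map_inv])⟩
  have hcardN : Nat.card N = 24 * O.card := by rw [← K.card_mul_index, hidx, h24]
  have h1O : 1 ∈ O := Finset.mem_filter.2 ⟨Finset.mem_univ _, 1, one_mem _, by simp⟩
  have h0O : 0 ∉ O := fun h => by
    obtain ⟨n, -, hn⟩ := (Finset.mem_filter.1 h).2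
    rw [show sv 0 = 1 from rfl, map_one, conj_eq_one_iff, sv_one] at hn
    rw [hn, orderOf_one] at hT
    omega
  have hbN : ι (g0 1) ∈ N := hzN _ fun v => ⟨beta v, beta_ok v⟩
  have hbO : ∀ v ∈ O, beta v ∈ O := by
    intro v hv
    obtain ⟨n, hn, hne⟩ := (Finset.mem_filter.1 hv).2
    refine Finset.mem_filter.2 ⟨Finset.mem_univ _, ι (g0 1) * n, mul_mem hbN hn, ?_⟩
    rw [← beta_ok, map_mul, map_mul, map_inv, ← hne]
    group
  have hodd : O.card % 2 = 1 := by
    have hle : (T : Subgroup G) ≤ N := hTS ▸ le_normalizer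
    have h1 : ¬ 2 ∣ ((T : Subgroup G).subgroupOf N).index := fun h2 =>
      T.not_dvd_index (h2.trans (relIndex_dvd_index_of_le hle))
    have h2 := ((T : Subgroup G).subgroupOf N).card_mul_index
    rw [Nat.card_congr (subgroupOfEquivOfLe hle).toEquiv, D.two T, hcardN] at h2
    omega
  rcases orbit_check O h1O h0O hbO hodd with hO | hO
  · exfalso
    have hNH : ∀ n ∈ N, n ∈ H := by
      intro n hn
      obtain ⟨v, hv⟩ := (mem_normalizer_iff.1 hn (ι (sv 1))).1 ⟨1, rfl⟩
      have hvO : v ∈ O := Finset.mem_filter.2 ⟨Finset.mem_univ _, n, hn, hv.symm⟩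
      rw [hO, Finset.mem_singleton] at hvO
      rw [hvO, sv_one, eq_comm, mul_inv_eq_iff_eq_mul] at hv
      exact mem_cent_iff.2 hv
    have hab : IsMulCommutative (T : Subgroup G) := by
      refine ⟨⟨fun a b => Subtype.ext ?_⟩⟩
      have ha := sImage_mul_self (hTS.le a.2)
      have hb := sImage_mul_self (hTS.le b.2)
      have hab := sImage_mul_self (hTS.le (mul_mem a.2 b.2))
      show (a : G) * b = b * a
      calc (a : G) * b = ((a : G) * b)⁻¹ := (inv_eq_of_mul_eq_one_right hab).symm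
        _ = (b : G)⁻¹ * (a : G)⁻¹ := mul_inv_rev _ _
        _ = b * a := by rw [inv_eq_of_mul_eq_one_right ha, inv_eq_of_mul_eq_one_right hb]
    let V : Subgroup G :=
      { carrier := {x | ∃ v : Fin 8, v.val % 2 = 0 ∧ ι (sv v) = x}
        one_mem' := ⟨0, rfl, by rw [show sv 0 = 1 from rfl, map_one]⟩
        mul_mem' := by
          rintro _ _ ⟨v, hv, rfl⟩ ⟨w, hw, rfl⟩
          exact ⟨vadd v w, (by revert v w; decide +kernel), by rw [sv_add, map_mul]⟩
        inv_mem' := by
          rintro _ ⟨v, hv, rfl⟩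
          exact ⟨v, hv, eq_inv_of_mul_eq_one_left (sImage_mul_self ⟨v, rfl⟩)⟩ }
    have hV : ⁅(T : Subgroup G), normalizer ((T : Subgroup G) : Set G)⁆ ≤ V := by
      rw [commutator_le, hTS]
      rintro _ ⟨v, rfl⟩ n hn
      obtain ⟨z, rfl⟩ : n ∈ ι.range := by rw [hr]; exact hNH n hn
      obtain ⟨w, hw⟩ := (mem_normalizer_iff.1 hn (ι (sv v))).1 ⟨v, rfl⟩
      refine ⟨vadd v w, stab_even z v w (hι (by rw [hw, map_mul, map_mul, map_inv])), ?_⟩
      rw [sv_add, map_mul, hw, commutatorElement_def,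
        inv_eq_of_mul_eq_one_right (sImage_mul_self (ι := ι) ⟨v, rfl⟩)]
      group
    have ht : ι (sv 1) ∈ (T : Subgroup G) := hTS.ge ⟨1, rfl⟩
    have h1 := Transfer.sylow_le_focalSubgroup_of_pResidual_eq_top T (residual_top D) ht
    rw [Transfer.focalSubgroup_eq_commutator_normalizer_of_abelian T hab] at h1
    obtain ⟨v, hv, hve⟩ := hV h1
    rw [sv_inj _ _ (hι hve)] at hv
    exact absurd hv (by decide)
  · refine ⟨by rw [hcardN, hO]; decide, fun v hv => ?_⟩
    have hvO : v ∈ O := by rw [hO]; exact Finset.mem_erase.2 ⟨hv, Finset.mem_univ _⟩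
    obtain ⟨n, hn, hne⟩ := (Finset.mem_filter.1 hvO).2
    exact ⟨n, hn, by rw [← sv_one]; exact hne⟩

include D in
/-- All involutions are conjugate. -/
theorem conj_t [IsSimpleGroup G] {a : G} (ha : orderOf a = 2) : ∃ g : G, g * D.t * g⁻¹ = a := by
  haveI : Fact (Nat.Prime 2) := ⟨Nat.prime_two⟩
  obtain ⟨T, hTS⟩ := D.exists_sylow
  obtain ⟨g, hg⟩ := Transfer.exists_conj_mem_sylow T (x := a) (k := 1) (by rw [ha, pow_one])
  obtain ⟨v, hv⟩ := hTS.le hg
  have hv0 : v ≠ 0 := by
    rintro rfl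
    rw [show sv 0 = 1 from rfl, map_one, eq_comm] at hv
    have : a = 1 := by simpa using hv
    rw [this, orderOf_one] at ha
    omega
  obtain ⟨n, -, hn⟩ := D.normalizer_sImage.2 v hv0
  rw [hv, D.ι_t] at hn
  refine ⟨g⁻¹ * n, ?_⟩
  calc g⁻¹ * n * D.t * (g⁻¹ * n)⁻¹ = g⁻¹ * (n * D.t * n⁻¹) * g := by group
    _ = a := by rw [hn]; group

include D in
theorem cent_inv_card [IsSimpleGroup G] {a : G} (ha : orderOf a = 2) :
    Nat.card (centralizer ({a} : Set G)) = 120 := by
  obtain ⟨g, rfl⟩ := conj_t D ha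
  have e : centralizer ({g * D.t * g⁻¹} : Set G) = (centralizer ({D.t} : Set G)).map (MulAut.conj g).toMonoidHom := by
    ext x
    rw [mem_map_equiv, mem_cent_iff, mem_cent_iff, MulAut.conj_symm_apply]
    constructor
    · intro h
      calc g⁻¹ * x * g * D.t = g⁻¹ * (x * (g * D.t * g⁻¹)) * g := by group
        _ = g⁻¹ * ((g * D.t * g⁻¹) * x) * g := by rw [h]
        _ = D.t * (g⁻¹ * x * g) := by group
    · intro h
      calc x * (g * D.t * g⁻¹) = g * ((g⁻¹ * x * g) * D.t) * g⁻¹ := by group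
        _ = g * (D.t * (g⁻¹ * x * g)) * g⁻¹ := by rw [h]
        _ = g * D.t * g⁻¹ * x := by group
  rw [e, card_map_of_injective (MulAut.conj g).injective, Nat.card_congr D.e.toEquiv, Nat.card_eq_fintype_card]
  rfl

end Cfsg.Agent.J1Cent38
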