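import Cfsg.Agent.J1Cent38.Three
import Cfsg.Agent.InvChar68.CharTools
import Cfsg.Agent.Lib.Involution.Counting

/-!
When an element of order three has a centraliser of order six, two characters determine the group
order up to finitely many possibilities.
-/

set_option autoImplicit false
set_option linter.style.haveILetI false

namespace Cfsg.Agent.J1Cent38

open Subgroup J1Order38 InvChar68
open scoped ComplexConjugate

variable {G : Type*} [Group G] [Finite G]

/-- Half the sum of the values at `w` and `w ^ 4` is an integer when both are real. -/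
theorem exists_int_half {w : G} (hw : w ^ 6 = 1) (h1 : IsConj w w⁻¹) (χ : Cfsg.IrrCharacter G) :
    ∃ c : ℤ, (χ : G → ℂ) (w ^ 4) + (χ : G → ℂ) w = 2 * (c : ℂ) := by
  classical
  obtain ⟨n, ρ, -, hρ⟩ := χ.2
  obtain ⟨bas, ω, hω, -, -, hk⟩ := CharCore.exists_eigenvalues ρ w
  have h6 : ∀ i, ω i ^ 6 = 1 := fun i => by
    obtain ⟨k, hk'⟩ := orderOf_dvd_of_pow_eq_one hw
    rw [hk', pow_mul, hω i, one_pow]
  set S := Finset.univ.filter fun i => ω i ^ 3 = 1 with hS
  have hsum : ∀ m : ℕ, m % 2 = 1 → (χ : G → ℂ) (w ^ (m + 3)) + (χ : G → ℂ) (w ^ m) =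
      2 * ∑ i ∈ S, ω i ^ m := by
    intro m _
    rw [← hρ, hk, hk, ← Finset.sum_add_distrib, Finset.mul_sum, hS, Finset.sum_filter]
    refine Finset.sum_congr rfl fun i _ => ?_
    by_cases h : ω i ^ 3 = 1
    · rw [if_pos h, pow_add, h]; ring
    · rw [if_neg h]
      have hm : ω i ^ 3 = -1 := by
        have : (ω i ^ 3) ^ 2 = 1 := by rw [← pow_mul]; exact h6 i
        exact (sq_eq_one_iff.1 this).resolve_left h
      rw [pow_add, hm]; ring
  set c := ∑ i ∈ S, ω i with hc
  have e1 : (χ : G → ℂ) (w ^ 4) + (χ : G → ℂ) w = 2 * c := by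
    have h := hsum 1 rfl
    simp only [pow_one] at h
    exact h
  have hreal : (χ : G → ℂ) (w ^ 2) + (χ : G → ℂ) (w ^ 5) = (χ : G → ℂ) (w ^ 4) + (χ : G → ℂ) w := by
    obtain ⟨g, hg⟩ := isConj_iff.1 h1
    have hp : ∀ m : ℕ, (χ : G → ℂ) (w⁻¹ ^ m) = (χ : G → ℂ) (w ^ m) := fun m => by
      rw [← hg, conj_pow, CharCore.irr_isClassFunction χ (w ^ m) g]
    have i5 : w⁻¹ = w ^ 5 := inv_eq_of_mul_eq_one_right (by rw [← pow_succ', hw])
    have a := hp 4
    have b := hp 1
    rw [i5, ← pow_mul, show 5 * 4 = 6 * 3 + 2 from rfl, pow_add, pow_mul, hw, one_pow, one_mul] at a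
    rw [i5, ← pow_mul, pow_one] at b
    rw [a, b]
  have e5 : (χ : G → ℂ) (w ^ 2) + (χ : G → ℂ) (w ^ 5) = 2 * ∑ i ∈ S, ω i ^ 5 := by
    have h := hsum 5 rfl
    rw [show (5 + 3) = 6 + 2 from rfl, pow_add, hw, one_mul] at h
    exact h
  have h2c : c + c = ((∑ i ∈ S, if ω i = 1 then 2 else -1 : ℤ) : ℂ) := by
    have e : c = ∑ i ∈ S, ω i ^ 5 := by
      rw [hreal, e1] at e5
      exact mul_left_cancel₀ two_ne_zero e5
    nth_rewrite 2 [e]
    rw [hc, ← Finset.sum_add_distrib, Int.cast_sum]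
    refine Finset.sum_congr rfl fun i hi => ?_
    have h3 : ω i ^ 3 = 1 := (Finset.mem_filter.1 hi).2
    by_cases h : ω i = 1
    · rw [if_pos h, h]; norm_num
    · rw [if_neg h]
      have : (ω i - 1) * (ω i ^ 2 + ω i + 1) = 0 := by linear_combination h3
      have h0 := (mul_eq_zero.1 this).resolve_left (sub_ne_zero.2 h)
      push_cast
      linear_combination h0 + ω i ^ 2 * h3
  set m : ℤ := ∑ i ∈ S, if ω i = 1 then 2 else -1
  have hq : IsIntegral ℤ (((m : ℚ) / 2 : ℚ) : ℂ) := by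
    have : (((m : ℚ) / 2 : ℚ) : ℂ) = c := by push_cast; linear_combination -(1/2 : ℂ) * h2c
    rw [this]
    refine IsIntegral.sum _ fun i hi => ?_
    exact IsIntegral.of_pow (by norm_num : 0 < 3) (by rw [(Finset.mem_filter.1 hi).2]; exact isIntegral_one)
  have hq' : IsIntegral ℤ ((m : ℚ) / 2) :=
    (isIntegral_algebraMap_iff (B := ℂ) (algebraMap ℚ ℂ).injective).1 hq
  obtain ⟨z, hz⟩ := IsIntegrallyClosed.isIntegral_iff.1 hq'
  refine ⟨z, ?_⟩
  rw [e1]
  have hz' : (z : ℂ) = (m : ℂ) / 2 := by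
    have := congrArg (fun q : ℚ => (q : ℂ)) hz
    simpa using this
  rw [hz']
  linear_combination h2c

theorem exists_two {ι : Type*} [Fintype ι] [DecidableEq ι] (a : ι → ℤ) (i0 : ι) (ha0 : a i0 = 1)
    (haa : ∑ i, a i ^ 2 = 3) :
    ∃ p q : ι, a p ^ 2 = 1 ∧ a q ^ 2 = 1 ∧ p ≠ q ∧ p ≠ i0 ∧ q ≠ i0 ∧
      ∀ F : ι → ℂ, (∀ i, a i = 0 → F i = 0) → ∑ i, F i = F i0 + F p + F q := by
  set U := Finset.univ.erase i0 with hU
  rw [← Finset.add_sum_erase _ _ (Finset.mem_univ i0), ← hU, ha0] at haa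
  have ha1 : ∀ i ∈ U, a i ≠ 0 → a i ^ 2 = 1 := by
    intro i hi hne
    have h := Finset.single_le_sum (f := fun i => a i ^ 2) (fun j _ => sq_nonneg _) hi
    have : -1 ≤ a i ∧ a i ≤ 1 := by constructor <;> nlinarith
    have : a i = -1 ∨ a i = 1 := by omega
    rcases this with h | h <;> simp [h]
  set S := U.filter (fun i => a i ≠ 0) with hS
  have hcard : S.card = 2 := by
    have h1 : ∑ i ∈ U, a i ^ 2 = ∑ i ∈ S, a i ^ 2 := by
      rw [hS, Finset.sum_filter_of_ne]
      intro i _ h h0; exact h (by rw [h0]; ring)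
    rw [h1, Finset.sum_congr rfl fun i hi =>
      ha1 i (Finset.mem_filter.mp hi).1 (Finset.mem_filter.mp hi).2] at haa
    rw [one_pow, Finset.sum_const, nsmul_eq_mul, mul_one] at haa
    have h3 : (S.card : ℤ) = 2 := by linarith
    exact_mod_cast h3
  obtain ⟨p, q, hpq, hSe⟩ := Finset.card_eq_two.mp hcard
  have hmem : ∀ i, i ∈ ({p, q} : Finset ι) → a i ^ 2 = 1 ∧ i ≠ i0 := by
    intro i hi
    rw [← hSe] at hi
    obtain ⟨hiU, hne⟩ := Finset.mem_filter.mp hi
    exact ⟨ha1 i hiU hne, (Finset.mem_erase.mp hiU).1⟩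
  obtain ⟨hp, hp'⟩ := hmem p (by simp)
  obtain ⟨hq, hq'⟩ := hmem q (by simp)
  refine ⟨p, q, hp, hq, hpq, hp', hq', fun F hF => ?_⟩
  rw [← Finset.add_sum_erase _ F (Finset.mem_univ i0), ← hU]
  have hFS : ∑ i ∈ U, F i = ∑ i ∈ S, F i := by
    rw [hS, Finset.sum_filter_of_ne]
    intro i _ h h0; exact h (hF i h0)
  rw [hFS, hSe, Finset.sum_pair hpq]
  ring

/-- Pairs of involutions with product a strongly real element with six inverting elements. -/
theorem pairs_six {x r : G} (hx : x ^ 2 ≠ 1) (hr : r * x * r⁻¹ = x⁻¹)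
    (hC : Nat.card (centralizer ({x} : Set G)) = 6)
    (hall : ∀ c ∈ centralizer ({x} : Set G), orderOf (r * c) = 2) :
    Nat.card {p : G × G // orderOf p.1 = 2 ∧ orderOf p.2 = 2 ∧ p.1 * p.2 = x} = 6 := by
  rw [Involution.card_pairs_eq_inverting hx, ← hC, ← Involution.card_inverting_eq_centralizer hr]
  refine Nat.card_congr (Equiv.subtypeEquivRight fun g => ⟨fun h => h.2, fun h => ⟨?_, h⟩⟩)
  have hc : r⁻¹ * g ∈ centralizer ({x} : Set G) := by
    rw [mem_cent_iff]
    calc r⁻¹ * g * x = r⁻¹ * (g * x * g⁻¹) * g := by group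
      _ = r⁻¹ * (r * x * r⁻¹) * g := by rw [h, hr]
      _ = x * (r⁻¹ * g) := by group
  have := hall _ hc
  rwa [show r * (r⁻¹ * g) = g by group] at this

/-- The numerical condition. -/
def sixOk (d s : ℤ) : Bool :=
  let u := s + d
  let num := 86400 * u * (u + 1)
  d == 0 || num % (d * d) != 0 ||
    (let N := num / (d * d)
     decide (N % 840 ≠ 0) || decide (N % 16 = 0) || decide (N % 9 = 0) ||
      decide (N < u * u + (u + 1) * (u + 1) + 1) || decide (N = 121800))

set_option maxRecDepth 100000 in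
theorem six_check : ∀ s : Fin 21, ∀ d : Fin 415, sixOk ((d.val : ℤ) - 207) ((s.val : ℤ) - 10) = true := by
  decide +kernel

theorem six_solve {N u s : ℤ} (hu : u ≠ 0) (hu1 : u ≠ -1) (hs : -10 ≤ s ∧ s ≤ 10)
    (h : (u - s) * (u - s) * N = 86400 * u * (u + 1)) (hN : u * u + (u + 1) * (u + 1) + 1 ≤ N)
    (h840 : N % 840 = 0) (h16 : N % 16 ≠ 0) (h9 : N % 9 ≠ 0) : N = 121800 := by
  have hpos : 0 < u * (u + 1) := by
    rcases lt_or_gt_of_ne hu with h' | h'
    · exact mul_pos_of_neg_of_neg h' (by omega)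
    · exact mul_pos h' (by omega)
  have hd0 : u - s ≠ 0 := fun h0 => by rw [h0] at h; nlinarith
  have hN2 : 2 * (u * (u + 1)) + 2 ≤ N := by linarith [hN, show u * u + (u + 1) * (u + 1) + 1 = 2 * (u * (u + 1)) + 2 by ring]
  have hlt : (u - s) * (u - s) < 43200 := by
    by_contra hge
    push Not at hge
    nlinarith [mul_le_mul hge hN2 (by omega) (by nlinarith)]
  have hd : -207 ≤ u - s ∧ u - s ≤ 207 := by constructor <;> nlinarith
  have hc := six_check ⟨(s + 10).toNat, by omega⟩ ⟨(u - s + 207).toNat, by omega⟩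
  rw [show ((((⟨(u - s + 207).toNat, by omega⟩ : Fin 415).val : ℕ) : ℤ)) - 207 = u - s by
      simp only; rw [Int.toNat_of_nonneg (by omega)]; ring,
    show ((((⟨(s + 10).toNat, by omega⟩ : Fin 21).val : ℕ) : ℤ)) - 10 = s by
      simp only; rw [Int.toNat_of_nonneg (by omega)]; ring] at hc
  simp only [sixOk, add_sub_cancel] at hc
  rw [← h, Int.mul_emod_right, Int.mul_ediv_cancel_left _ (mul_ne_zero hd0 hd0)] at hc
  simp only [bne_self_eq_false, beq_eq_false_iff_ne.2 hd0, Bool.false_or, Bool.or_eq_true,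
    decide_eq_true_eq] at hc
  rcases hc with (((hc | hc) | hc) | hc) | hc <;> omega

theorem card_eq_of_six {b t r : G} (hb : orderOf b = 3) (ht : orderOf t = 2) (htb : t * b = b * t)
    (hrb : r * b * r⁻¹ = b⁻¹) (hrt : r * t = t * r) (hr : r * r = 1)
    (hC : Nat.card (centralizer ({b} : Set G)) = 6)
    (hconj : ∀ x : G, orderOf x = 2 → IsConj t x)
    (hCt : Nat.card (centralizer ({t} : Set G)) = 120)
    (h840 : 840 ∣ Nat.card G) (h16 : ¬ 16 ∣ Nat.card G) (h9 : ¬ 9 ∣ Nat.card G) :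
    Nat.card G = 121800 := by
  classical
  have := Fintype.ofFinite G
  set w := t * b with hw
  have htc : Commute t b := htb
  have ht2 : t * t = 1 := by rw [← pow_two, ← ht]; exact pow_orderOf_eq_one t
  have hb3 : b ^ 3 = 1 := by rw [← hb]; exact pow_orderOf_eq_one b
  have ht4 : t ^ 4 = 1 := by rw [show 4 = 2 * 2 from rfl, pow_mul, pow_two t, ht2, one_pow]
  have hwo : orderOf w = 6 := by
    rw [hw, htc.orderOf_mul_eq_mul_orderOf_of_coprime (by rw [ht, hb]; norm_num), ht, hb]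
  have hw6 : w ^ 6 = 1 := by rw [← hwo]; exact pow_orderOf_eq_one w
  have hw4 : w ^ 4 = b := by
    rw [hw, htc.mul_pow, ht4, one_mul, show 4 = 3 + 1 from rfl, pow_add, hb3, one_mul, pow_one]
  have hw3 : w ^ 3 = t := by
    rw [hw, htc.mul_pow, hb3, mul_one, show 3 = 2 + 1 from rfl, pow_add, pow_two, ht2, one_mul, pow_one]
  have hrw : r * w * r⁻¹ = w⁻¹ := by
    calc r * w * r⁻¹ = (r * t) * r⁻¹ * (r * b * r⁻¹) := by rw [hw]; group
      _ = t * b⁻¹ := by rw [hrb, hrt]; group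
      _ = b⁻¹ * t := (htc.inv_right).eq
      _ = b⁻¹ * t⁻¹ := by rw [inv_eq_of_mul_eq_one_right ht2]
      _ = w⁻¹ := by rw [hw, mul_inv_rev]
  -- the centraliser of `b` is generated by `w`
  have hCw : centralizer ({b} : Set G) = zpowers w := by
    refine (eq_of_le_of_card_ge ?_ (by rw [hC, Nat.card_zpowers, hwo])).symm
    rw [zpowers_le, mem_cent_iff]
    calc t * b * b = b * t * b := by rw [htc.eq]
      _ = b * (t * b) := by group
  have hCw' : centralizer ({w} : Set G) = zpowers w := by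
    refine le_antisymm (fun c hc => hCw ▸ mem_cent_iff.2 ?_)
      (zpowers_le.2 (mem_cent_iff.2 rfl))
    rw [← hw4]; exact (show Commute c w from mem_cent_iff.1 hc).pow_right 4
  have hCwc : Nat.card (centralizer ({w} : Set G)) = 6 := by rw [hCw', Nat.card_zpowers, hwo]
  have hinv : ∀ c ∈ zpowers w, orderOf (r * c) = 2 := by
    intro c hc
    obtain ⟨i, rfl⟩ := mem_zpowers_iff.1 hc
    refine orderOf_eq_prime ?_ fun h => ?_
    · have e : r * w ^ i * r⁻¹ = (w ^ i)⁻¹ := by
        rw [show r * w ^ i * r⁻¹ = MulAut.conj r (w ^ i) from rfl, map_zpow, MulAut.conj_apply, hrw, inv_zpow]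
      calc (r * w ^ i) ^ 2 = (r * w ^ i * r⁻¹) * ((r * r) * w ^ i) := by rw [pow_two]; group
        _ = 1 := by rw [e, hr, one_mul, inv_mul_cancel]
    · have hrz : r = w ^ (-i) := by rw [eq_inv_of_mul_eq_one_left h, zpow_neg]
      have hcomm : r * b * r⁻¹ = b := by
        rw [hrz, ← hw4, ← zpow_natCast w 4]; group
      rw [hcomm] at hrb
      have : b ^ 2 = 1 := by rw [pow_two]; nth_rewrite 2 [hrb]; exact mul_inv_cancel b
      have := orderOf_dvd_of_pow_eq_one this
      rw [hb] at this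
      norm_num at this
  -- the class of `t` consists of all involutions
  have hcl : ∀ x : G, IsConj t x ↔ orderOf x = 2 := fun x => ⟨fun h => by
    obtain ⟨g, rfl⟩ := isConj_iff.1 h
    rw [show g * t * g⁻¹ = MulAut.conj g t from rfl, MulEquiv.orderOf_eq, ht], hconj x⟩
  have hpairs : ∀ x : G, (x = b ∨ x = w) →
      Nat.card {p : G × G // IsConj t p.1 ∧ IsConj t p.2 ∧ p.1 * p.2 = x} = 6 := by
    intro x hx
    simp only [hcl]
    rcases hx with rfl | rfl
    · refine pairs_six (fun h => ?_) hrb hC (hCw ▸ hinv)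
      have := orderOf_dvd_of_pow_eq_one h
      rw [hb] at this; norm_num at this
    · refine pairs_six (fun h => ?_) hrw hCwc (hCw' ▸ hinv)
      have := orderOf_dvd_of_pow_eq_one h
      rw [hwo] at this; norm_num at this
  choose d hd0 hd using fun χ : Cfsg.IrrCharacter G => CharCore.IsIrrCharacter.exists_degree χ.2
  choose a ha _hpar using fun χ : Cfsg.IrrCharacter G => exists_int_value_involution ht χ (hd χ)
  have hreal : IsConj w w⁻¹ := isConj_iff.2 ⟨r, hrw⟩
  choose c hc using fun χ : Cfsg.IrrCharacter G => exists_int_half hw6 hreal χ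
  simp only [hw4] at hc
  let χ0 : Cfsg.IrrCharacter G := ⟨1, CharCore.isIrrCharacter_one⟩
  have ha0 : a χ0 = 1 := by
    have := ha χ0; simp only [χ0, Pi.one_apply] at this; exact_mod_cast this.symm
  have hd00 : d χ0 = 1 := by
    have := hd χ0; simp only [χ0, Pi.one_apply] at this; exact_mod_cast this.symm
  have hc0 : c χ0 = 1 := by
    have := hc χ0; simp only [χ0, Pi.one_apply] at this
    have h2 : (2 : ℂ) * (c χ0 : ℂ) = 2 * 1 := by linear_combination -this
    exact_mod_cast mul_left_cancel₀ two_ne_zero h2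
  have hno : ∀ {x y : G}, orderOf x ≠ orderOf y → ¬ IsConj x y := fun hne hxy => by
    obtain ⟨g, rfl⟩ := isConj_iff.1 hxy
    exact hne (by rw [show g * _ * g⁻¹ = MulAut.conj g _ from rfl, MulEquiv.orderOf_eq])
  have hcc : ∑ χ, c χ ^ 2 = 3 := by
    have hbb := sum_mul_conj_self b
    have hww := sum_mul_conj_self w
    have hbw := sum_mul_conj_eq_zero (hno (show orderOf b ≠ orderOf w by rw [hb, hwo]; norm_num))
    have hwb := sum_mul_conj_eq_zero (hno (show orderOf w ≠ orderOf b by rw [hb, hwo]; norm_num))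
    rw [hC] at hbb
    rw [hCwc] at hww
    have h4 : ∑ χ : Cfsg.IrrCharacter G, (2 * (c χ : ℂ)) * conj (2 * (c χ : ℂ)) = 12 := by
      simp only [← hc, map_add, mul_add, add_mul, Finset.sum_add_distrib, hbb, hww, hbw, hwb]
      norm_num
    have h5 : ((∑ χ, c χ ^ 2 : ℤ) : ℂ) = 3 := by
      push_cast
      simp only [map_mul, map_intCast, Complex.conj_ofNat] at h4
      have : (4 : ℂ) * ∑ χ : Cfsg.IrrCharacter G, (c χ : ℂ) ^ 2 = 4 * 3 := by
        rw [Finset.mul_sum]
        refine (Finset.sum_congr rfl fun χ _ => ?_).trans (h4.trans (by norm_num))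
        ring
      exact mul_left_cancel₀ (by norm_num) this
    exact_mod_cast h5
  obtain ⟨p, q, hp, hq, hpq, hp0, hq0, hsum⟩ := exists_two c χ0 hc0 hcc
  have hb1 : b ≠ 1 := fun h => by rw [h, orderOf_one] at hb; omega
  have hw1 : w ≠ 1 := fun h => by rw [h, orderOf_one] at hwo; omega
  have ed : (1 : ℤ) + c p * d p + c q * d q = 0 := by
    have e1 := sum_degree_mul_eq_zero d hd hb1
    have e2 := sum_degree_mul_eq_zero d hd hw1
    have h : ∑ χ : Cfsg.IrrCharacter G, (d χ : ℂ) * (c χ : ℂ) = 0 := by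
      have : ∑ χ : Cfsg.IrrCharacter G, (d χ : ℂ) * (2 * (c χ : ℂ)) = 0 := by
        simp only [← hc, mul_add, Finset.sum_add_distrib, e1, e2, add_zero]
      refine mul_left_cancel₀ (two_ne_zero (α := ℂ)) ?_
      rw [Finset.mul_sum, mul_zero]
      exact (Finset.sum_congr rfl fun χ _ => by ring).trans this
    rw [hsum _ (fun i h1 => by simp [h1]), hc0, hd00] at h
    have h' : (((1 : ℤ) + c p * d p + c q * d q : ℤ) : ℂ) = 0 := by
      push_cast at h ⊢; linear_combination h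
    exact_mod_cast h'
  have ea : (1 : ℤ) + c p * a p + c q * a q = 0 := by
    have e1 := sum_mul_conj_eq_zero (hno (show orderOf b ≠ orderOf t by rw [hb, ht]; norm_num))
    have e2 := sum_mul_conj_eq_zero (hno (show orderOf w ≠ orderOf t by rw [hwo, ht]; norm_num))
    have h : ∑ χ : Cfsg.IrrCharacter G, (c χ : ℂ) * (a χ : ℂ) = 0 := by
      have : ∑ χ : Cfsg.IrrCharacter G, (2 * (c χ : ℂ)) * conj ((χ : G → ℂ) t) = 0 := by
        simp only [← hc, add_mul, Finset.sum_add_distrib, e1, e2, add_zero]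
      simp only [ha, map_intCast] at this
      refine mul_left_cancel₀ (two_ne_zero (α := ℂ)) ?_
      rw [Finset.mul_sum, mul_zero]
      exact (Finset.sum_congr rfl fun χ _ => by ring).trans this
    rw [hsum _ (fun i h1 => by simp [h1]), hc0, ha0] at h
    have h' : (((1 : ℤ) + c p * a p + c q * a q : ℤ) : ℂ) = 0 := by
      push_cast at h ⊢; linear_combination h
    exact_mod_cast h'
  have hab : a p ^ 2 ≤ 120 := by
    have h := sum_mul_conj_self t
    rw [hCt] at h
    simp only [ha, map_intCast] at h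
    have h2 : ∑ χ, a χ ^ 2 = 120 := by
      have : ((∑ χ, a χ ^ 2 : ℤ) : ℂ) = 120 := by simp only [pow_two]; push_cast at h ⊢; exact h
      exact_mod_cast this
    exact h2 ▸ Finset.single_le_sum (f := fun χ => a χ ^ 2) (fun j _ => sq_nonneg _) (Finset.mem_univ p)
  -- class multiplication
  set I := Nat.card {y : G // IsConj t y} with hI
  have hGI : Nat.card G = I * 120 := by rw [← card_isConj_mul_card_centralizer t, hCt]
  have hI0 : (I : ℂ) ≠ 0 := by
    refine Nat.cast_ne_zero.2 fun h => ?_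
    rw [h, zero_mul] at hGI
    exact Nat.card_pos.ne' hGI
  have hstr : (12 : ℂ) * (Nat.card G : ℂ) =
      (I : ℂ) ^ 2 * ∑ χ : Cfsg.IrrCharacter G, (a χ : ℂ) ^ 2 * (2 * (c χ : ℂ)) / (d χ : ℂ) := by
    have e1 := card_pairs_mul_card t b
    have e2 := card_pairs_mul_card t w
    rw [hpairs b (Or.inl rfl), ← hI] at e1
    rw [hpairs w (Or.inr rfl), ← hI] at e2
    have hreal' : ∀ χ : Cfsg.IrrCharacter G, conj ((χ : G → ℂ) b) + conj ((χ : G → ℂ) w) = 2 * (c χ : ℂ) := by
      intro χ; rw [← map_add, hc, map_mul, map_intCast, Complex.conj_ofNat]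
    simp only [ha, hd] at e1 e2
    have e3 : (12 : ℂ) * (Nat.card G : ℂ) = ((6 : ℕ) : ℂ) * (Nat.card G : ℂ) + ((6 : ℕ) : ℂ) * (Nat.card G : ℂ) := by
      push_cast; ring
    rw [e3]
    nth_rewrite 1 [e1]
    rw [e2, ← mul_add, ← Finset.sum_add_distrib]
    congr 1
    refine Finset.sum_congr rfl fun χ _ => ?_
    rw [← hreal' χ]; ring
  rw [hsum _ (fun i h1 => by simp [h1]), hc0, ha0, hd00] at hstr
  set N := Nat.card G with hN
  set u : ℤ := c p * d p with hu
  set s : ℤ := c p * a p with hs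
  have hv : c q * (d q : ℤ) = -1 - u := by rw [hu]; linarith
  have hw' : c q * a q = -1 - s := by rw [hs]; linarith
  have hu0 : u ≠ 0 := by
    rw [hu]; exact mul_ne_zero (fun h => by rw [h] at hp; norm_num at hp) (by exact_mod_cast (hd0 p).ne')
  have hu1 : u ≠ -1 := fun h => by
    rw [h] at hv
    have : c q * (d q : ℤ) = 0 := by rw [hv]; ring
    rcases mul_eq_zero.1 this with h' | h'
    · rw [h'] at hq; norm_num at hq
    · exact (hd0 q).ne' (by exact_mod_cast h')
  have hkey : (u - s) * (u - s) * (N : ℤ) = 86400 * u * (u + 1) := by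
    have c1 : (c p : ℂ) ^ 2 = 1 := by exact_mod_cast hp
    have c2 : (c q : ℂ) ^ 2 = 1 := by exact_mod_cast hq
    have n1 : (d p : ℂ) ≠ 0 := Nat.cast_ne_zero.mpr (hd0 p).ne'
    have n2 : (d q : ℂ) ≠ 0 := Nat.cast_ne_zero.mpr (hd0 q).ne'
    have u0 : (u : ℂ) ≠ 0 := Int.cast_ne_zero.2 hu0
    have v0 : ((-1 - u : ℤ) : ℂ) ≠ 0 := Int.cast_ne_zero.2 (by omega)
    have t1 : (a p : ℂ) ^ 2 * (2 * (c p : ℂ)) / (d p : ℂ) = 2 * (s : ℂ) ^ 2 / (u : ℂ) := by
      rw [div_eq_div_iff n1 u0, hs, hu]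
      push_cast
      linear_combination (-2 * (a p : ℂ) ^ 2 * (d p : ℂ) * (1 - 1)) * c1 + 0
    have t2 : (a q : ℂ) ^ 2 * (2 * (c q : ℂ)) / (d q : ℂ) =
        2 * ((-1 - s : ℤ) : ℂ) ^ 2 / ((-1 - u : ℤ) : ℂ) := by
      rw [div_eq_div_iff n2 v0, ← hw', ← hv]
      push_cast
      ring
    rw [t1, t2] at hstr
    rw [hGI] at hstr ⊢
    push_cast at v0 hstr
    field_simp at hstr
    have key : ((((u - s) * (u - s) * (((I * 120 : ℕ)) : ℤ)) : ℤ) : ℂ) = ((86400 * u * (u + 1) : ℤ) : ℂ) := by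
      push_cast
      linear_combination 60 * hstr
    exact_mod_cast key
  have hbd : u * u + (u + 1) * (u + 1) + 1 ≤ (N : ℤ) := by
    have hsq : ∑ χ, (d χ : ℤ) ^ 2 = N := by
      have h := CharCore.sum_degree_sq (G := G)
      simp only [hd] at h
      exact_mod_cast h
    have e1 : u * u = (d p : ℤ) ^ 2 := by rw [hu]; linear_combination (d p : ℤ) ^ 2 * hp
    have e2 : (u + 1) * (u + 1) = (d q : ℤ) ^ 2 := by
      have : (c q * (d q : ℤ)) ^ 2 = (-1 - u) ^ 2 := by rw [hv]
      linear_combination (d q : ℤ) ^ 2 * hq - this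
    rw [e1, e2, ← hsq]
    calc (d p : ℤ) ^ 2 + (d q : ℤ) ^ 2 + 1
        = ∑ i ∈ ({χ0, p, q} : Finset _), (d i : ℤ) ^ 2 := by
          rw [Finset.sum_insert (by simp [hp0.symm, hq0.symm]), Finset.sum_pair hpq, hd00]
          push_cast; ring
      _ ≤ ∑ i, (d i : ℤ) ^ 2 :=
          Finset.sum_le_sum_of_subset_of_nonneg (Finset.subset_univ _) fun i _ _ => sq_nonneg _
  have hs10 : -10 ≤ s ∧ s ≤ 10 := by
    have : s ^ 2 ≤ 120 := by rw [hs, mul_pow, hp, one_mul]; exact hab
    constructor <;> nlinarith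
  have := six_solve hu0 hu1 hs10 hkey hbd (by omega) (by omega) (by omega)
  omega

end Cfsg.Agent.J1Cent38
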