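import Cfsg.Agent.J1Cent38.Six
import Cfsg.Agent.J1Order38.Unique
import Cfsg.Agent.S0457

/-!
In the surviving case the generators span a simple group of order 175560, which is everything.
-/

set_option autoImplicit false
set_option linter.style.haveILetI false

namespace Cfsg.Agent.J1Cent38

open Subgroup J1Order38 Cert

/-- The permutation group of the coset table. -/
theorem table_group :
    IsSimpleGroup (closure (tableSet Table.pre)) ∧ Nat.card (closure (tableSet Table.pre)) = 175560 ∧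
      ∀ k < 5, ∃ σ : Equiv.Perm (Fin 1045), ∀ l : Fin 1045, (σ l : ℕ) = (Table.pre k).get l := by
  obtain ⟨x, y, -, -, hs, hc⟩ := S0457.result
  haveI := hs
  obtain ⟨ρ, hρ, hρr, hσ⟩ := exists_rep (G := Subgroup.closure ({x, y} : Set (GL (Fin 7) (ZMod 11)))) hc
  let e := (MonoidHom.ofInjective hρ).trans (MulEquiv.subgroupCongr hρr)
  exact ⟨e.symm.isSimpleGroup, by rw [← Nat.card_congr e.toEquiv, hc], hσ⟩

/-- Generators satisfying the surviving relations span a simple group of order 175560, unless the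
common subgroup has a nontrivial core. -/
theorem card_closure {G : Type*} [Group G] [Finite G] {g : ℕ → G}
    (hb : ∀ w ∈ baseRels, eval g w = 1)
    {w : List ℕ} (hw : w = [0, 4, 0, 4, 9, 0, 3, 0, 4, 8, 5, 1, 5, 1])
    (he : eval g (caseRel w) = 1) (hne : g 2 ∉ cosetGroup g)
    (hcore : ∀ x, (∀ a ∈ closure (g '' {i | i < 5}), a * x * a⁻¹ ∈ cosetGroup g) → x = 1) :
    IsSimpleGroup (closure (g '' {i | i < 5})) ∧ Nat.card (closure (g '' {i | i < 5})) = 175560 := by
  classical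
  subst hw
  set X := closure (g '' {i | i < 5}) with hX
  set K := cosetGroup g
  obtain ⟨hJs, hJc, hσ⟩ := table_group
  obtain ⟨-, el, he0, hel⟩ := Case1.derived hb he
  have hok : ∀ k < 5, tableOk Case1.facts Table.node (Table.pre k) (Table.ref k) k 7151 1045 = true := by
    intro k hk
    interval_cases k
    · exact Table.table_ok0
    · exact Table.table_ok1
    · exact Table.table_ok2
    · exact Table.table_ok3
    · exact Table.table_ok4
  have hedge := fun k (hk : k < 5) => table_edge hk (hok k hk) fun i hi => (hel i hi).2.2.2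
  let ψ : Fin 1045 → G ⧸ K := fun l => QuotientGroup.mk (el (Table.node.get l))⁻¹
  have hact : ∀ k (hk : k < 5) (l : Fin 1045),
      g k • ψ l = ψ ⟨(Table.pre k).get l, (hedge k hk l l.isLt).1⟩ := by
    intro k hk l
    symm
    show (QuotientGroup.mk (el (Table.node.get ((Table.pre k).get l)))⁻¹ : G ⧸ K) =
      QuotientGroup.mk (g k * (el (Table.node.get l))⁻¹)
    rw [QuotientGroup.eq, inv_inv, ← mul_assoc]
    exact (hedge k hk l l.isLt).2
  let Γ : Subgroup (G × Equiv.Perm (Fin 1045)) :=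
    closure {p | ∃ k < 5, p.1 = g k ∧ ∀ l : Fin 1045, (p.2 l : ℕ) = (Table.pre k).get l}
  have heq : ∀ p ∈ Γ, ∀ l, p.1 • ψ l = ψ (p.2 l) := by
    intro p hp
    induction hp using closure_induction with
    | mem p hp =>
      obtain ⟨k, hk, h1, h2⟩ := hp
      intro l
      rw [h1, hact k hk l]
      congr 1
      exact Fin.ext (h2 l).symm
    | one => intro l; exact one_smul _ _
    | mul p q _ _ hp hq => intro l; rw [Prod.fst_mul, mul_smul, hq, hp]; rfl
    | inv p _ hp =>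
      intro l
      rw [Prod.fst_inv, inv_smul_eq_iff, hp]
      congr 1
      exact (p.2.apply_symm_apply l).symm
  have h1 : Γ.map (MonoidHom.fst G _) = X := by
    rw [MonoidHom.map_closure, hX]
    congr 1
    ext x
    constructor
    · rintro ⟨p, ⟨k, hk, h1, -⟩, rfl⟩; exact ⟨k, hk, h1.symm⟩
    · rintro ⟨k, hk, rfl⟩
      obtain ⟨σ, hσk⟩ := hσ k hk
      exact ⟨(g k, σ), ⟨k, hk, rfl, hσk⟩, rfl⟩
  have h2 : Γ.map (MonoidHom.snd G _) = closure (tableSet Table.pre) := by
    rw [MonoidHom.map_closure]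
    congr 1
    ext σ
    constructor
    · rintro ⟨p, ⟨k, hk, -, h⟩, rfl⟩; exact ⟨k, hk, h⟩
    · rintro ⟨k, hk, h⟩; exact ⟨(g k, σ), ⟨k, hk, rfl, h⟩, rfl⟩
  have hker : ∀ p ∈ Γ, p.2 = 1 → p.1 = 1 := by
    intro p hp hp2
    refine hcore _ fun a ha => ?_
    rw [← h1] at ha
    obtain ⟨q, hq, rfl⟩ := ha
    have hq' := inv_mem hq
    have hψ0 : ψ 0 = QuotientGroup.mk 1 := by
      show (QuotientGroup.mk (el (Table.node.get 0))⁻¹ : G ⧸ K) = _
      rw [node_zero, he0, inv_one]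
    have hfix : p.1 • ψ (q.2⁻¹ 0) = ψ (q.2⁻¹ 0) := by rw [heq p hp, hp2]; rfl
    rw [show ψ (q.2⁻¹ 0) = q.1⁻¹ • ψ 0 from (heq _ hq' 0).symm, smul_smul] at hfix
    have hfix' : (q.1 * (p.1 * q.1⁻¹)) • ψ 0 = ψ 0 := by rw [mul_smul, hfix, smul_inv_smul]
    rw [hψ0] at hfix'
    have hfix'' : (QuotientGroup.mk (q.1 * (p.1 * q.1⁻¹) * 1) : G ⧸ K) = QuotientGroup.mk 1 := hfix'
    rw [mul_one, QuotientGroup.eq, mul_one] at hfix''
    simpa [mul_assoc] using inv_mem hfix''
  let f₂ : Γ →* closure (tableSet Table.pre) :=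
    (MulEquiv.subgroupCongr h2).toMonoidHom.comp ((MonoidHom.snd G _).subgroupMap Γ)
  have hf₂ : ∀ p : Γ, (f₂ p : Equiv.Perm (Fin 1045)) = (p : G × Equiv.Perm (Fin 1045)).2 := fun p => rfl
  have hbij : Function.Bijective f₂ := by
    constructor
    · rw [← MonoidHom.ker_eq_bot_iff, Subgroup.eq_bot_iff_forall]
      intro p hp
      have hp2 : (p : G × Equiv.Perm (Fin 1045)).2 = 1 := by
        rw [← hf₂, MonoidHom.mem_ker.1 hp]; rfl
      exact Subtype.ext (Prod.ext (hker p p.2 hp2) hp2)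
    · intro σ
      obtain ⟨p, hp, hpσ⟩ := (by rw [h2]; exact σ.2 : (σ : Equiv.Perm (Fin 1045)) ∈ Γ.map (MonoidHom.snd G _))
      exact ⟨⟨p, hp⟩, Subtype.ext hpσ⟩
  let e₂ := MulEquiv.ofBijective f₂ hbij
  haveI := hJs
  let f₁ : closure (tableSet Table.pre) →* X :=
    ((MulEquiv.subgroupCongr h1).toMonoidHom.comp ((MonoidHom.fst G _).subgroupMap Γ)).comp e₂.symm.toMonoidHom
  have hsur : Function.Surjective f₁ := by
    intro x
    obtain ⟨p, hp, hpx⟩ := (by rw [h1]; exact x.2 : (x : G) ∈ Γ.map (MonoidHom.fst G _))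
    refine ⟨e₂ ⟨p, hp⟩, ?_⟩
    show (MulEquiv.subgroupCongr h1).toMonoidHom.comp ((MonoidHom.fst G _).subgroupMap Γ) (e₂.symm (e₂ ⟨p, hp⟩)) = x
    rw [MulEquiv.symm_apply_apply]
    exact Subtype.ext hpx
  have hinj : Function.Injective f₁ := by
    rw [← MonoidHom.ker_eq_bot_iff]
    refine (IsSimpleGroup.eq_bot_or_eq_top_of_normal f₁.ker inferInstance).resolve_right fun h => ?_
    apply hne
    obtain ⟨c, hc⟩ := hsur ⟨g 2, subset_closure ⟨2, by norm_num, rfl⟩⟩
    have : f₁ c = 1 := MonoidHom.mem_ker.1 (h ▸ mem_top c)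
    rw [this] at hc
    rw [← show ((1 : X) : G) = g 2 from congrArg Subtype.val hc]
    exact one_mem K
  let e := MulEquiv.ofBijective f₁ ⟨hinj, hsur⟩
  exact ⟨e.symm.isSimpleGroup, by rw [← Nat.card_congr e.toEquiv, hJc]⟩

end Cfsg.Agent.J1Cent38
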