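import Cfsg.Agent.J1Cent38.Three
import Cfsg.Agent.J1Order38.Gens

/-!
Generators and relations from the involution centraliser.
-/

set_option autoImplicit false
set_option linter.style.haveILetI false
set_option synthInstance.maxSize 4000

namespace Cfsg.Agent.J1Cent38

open Subgroup J1Order38 J1Order38.Model Cert

/-- Words of the two subgroups of order three inverted by each involution used. -/
def chiWords : List (List ℕ) := [[2, 0, 4, 2], [2, 4, 0, 4]]

/-- The further words whose conjugation would fix `b`. -/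
def threeWords : List (List ℕ) :=
  [[0, 4, 0, 4, 9, 2, 0, 4, 2, 8, 5, 1, 5, 1], [0, 4, 0, 4, 9, 2, 4, 0, 4, 8, 5, 1, 5, 1],
   [2, 0, 4, 8, 8, 2, 0, 4, 2, 9, 9, 5, 1, 3], [2, 0, 4, 8, 8, 2, 4, 0, 4, 9, 9, 5, 1, 3]]

set_option maxRecDepth 100000 in
theorem three_inverted : ∀ v : Fin 8, v = 5 ∨ v = 4 → ∀ z : HM, z ^ 3 = 1 → z ≠ 1 →
    sv v * z * (sv v)⁻¹ = z⁻¹ → ∃ i : Fin 3, ∃ w ∈ chiWords, z ^ i.val = eval g0 w := by
  decide +kernel

/-- Generators with relations and the small subgroup. -/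
structure CGens (G : Type*) [Group G] where
  g : ℕ → G
  base : ∀ w ∈ baseRels, eval g w = 1
  extra : ∃ w ∈ caseWords ++ threeWords, eval g (caseRel w) = 1
  cardK : Nat.card (cosetGroup g) = 168
  r_not_mem : g 2 ∉ cosetGroup g
  core : ∀ x, (∀ a ∈ closure (g '' {i | i < 5}), a * x * a⁻¹ ∈ cosetGroup g) → x = 1
  ord_t : orderOf (g 3) = 2

variable {G : Type*} [Group G] [Finite G] [IsSimpleGroup G] (D : Hyp G)
include D

theorem normalizer_card (S : Setup G) :
    Nat.card (normalizer ((sImage S.ι : Subgroup G) : Set G)) = 168 := by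
  let D'' : Hyp G := ⟨S.ι (g0 3), S.ordT,
    ((MonoidHom.ofInjective S.inj).trans (MulEquiv.subgroupCongr S.range)).symm, D.two⟩
  have e : D''.ι = S.ι := MonoidHom.ext fun z => rfl
  have h := D''.normalizer_sImage.1
  rwa [e] at h

theorem gens_or_six :
    (∃ b t r : G, orderOf b = 3 ∧ orderOf t = 2 ∧ t * b = b * t ∧ r * b * r⁻¹ = b⁻¹ ∧ r * t = t * r ∧
      Nat.card (centralizer ({b} : Set G)) = 6) ∨ Nonempty (CGens G) := by
  classical
  haveI : Fact (Nat.Prime 2) := ⟨Nat.prime_two⟩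
  obtain ⟨D'⟩ := exists_setup D
  obtain ⟨ι, u, hι, hT, hr, hu, hact, hbu⟩ := D'
  set D' : Setup G := ⟨ι, u, hι, hT, hr, hu, hact, hbu⟩
  have hrb : ι (g0 2) * ι (g0 1) * (ι (g0 2))⁻¹ = (ι (g0 1))⁻¹ := by
    rw [← map_inv, ← map_inv, ← map_mul, ← map_mul, g0_orders.2.2.1]
  have hb3 : orderOf (ι (g0 1)) = 3 := by
    rw [orderOf_injective ι hι]
    rcases (Nat.dvd_prime (by norm_num : Nat.Prime 3)).1 g0_orders.1 with h | h
    · exact absurd (orderOf_eq_one_iff.1 h) g0_orders.2.1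
    · exact h
  rcases cent_b D D' with h6 | ⟨y, q, hq, hy, hyb, hty, hσ⟩
  · refine Or.inl ⟨ι (g0 1), ι (g0 3), ι (g0 2), hb3, hT, ?_, hrb, ?_, h6⟩
    · rw [← map_mul, ← map_mul, g0_orders.2.2.2.2.1]
    · rw [← map_mul, ← map_mul, g0_orders.2.2.2.1]
  right
  change y * ι (g0 1) = ι (g0 1) * y at hyb
  change ι (g0 3) * y * (ι (g0 3))⁻¹ = y⁻¹ at hty
  change ι (g0 2) * y * (ι (g0 2))⁻¹ = y ∨
    ι (g0 2) * ι (g0 3) * y * (ι (g0 2) * ι (g0 3))⁻¹ = y at hσ
  set g := D'.gen with hg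
  have hev := D'.gen_eval
  have hsv : ∀ v, eval g (svWord v) = ι (sv v) := fun v => hev _ (by revert v; decide +kernel)
  have hit : ∀ (l : ℕ) w, u ^ l * ι (sv w) * (u ^ l)⁻¹ = ι (sv (m0^[l] w)) := by
    intro l
    induction l with
    | zero => intro w; simp
    | succ l ih =>
      intro w
      rw [Function.iterate_succ_apply, ← ih, ← hact, pow_succ]
      group
  set b := ι (g0 1) with hb
  set r := ι (g0 2) with hrd
  set t := ι (g0 3) with htd
  have hu7 : u ^ 7 = 1 := orderOf_dvd_iff_pow_eq_one.1 (dvd_of_eq hu)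
  have hbase : ∀ w ∈ baseRels, eval g w = 1 := by
    intro w hw
    rcases List.mem_append.1 hw with hw | hw
    · rw [hev w (by revert w; decide +kernel), relsH_ok w hw, map_one]
    · simp only [List.mem_cons, List.not_mem_nil, or_false] at hw
      have e1 : L g 8 = u := rfl
      have e2 : L g 9 = u⁻¹ := rfl
      have e3 : L g 2 = b := rfl
      have e4 : L g 3 = b⁻¹ := rfl
      have e5 : L g 0 = ι (g0 0) := rfl
      have e6 : L g 1 = (ι (g0 0))⁻¹ := rfl
      have e7 : L g 6 = t := rfl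
      have e8 : L g 7 = t⁻¹ := rfl
      have ct : u * t * u⁻¹ = ι (sv 5) := by rw [htd, ← sv_one, hact, m0_facts.2.1]
      have ca : u * ι (g0 0) * u⁻¹ = t := by rw [htd, ← sv_two, hact, m0_facts.1, sv_one]
      have c4 : ι (sv 4) = b * ι (g0 0) * b⁻¹ := by
        rw [hb, ← map_inv, ← map_mul, ← map_mul]; congr 1
      have ca2 : u * (b * ι (g0 0) * b⁻¹) * u⁻¹ = ι (g0 0) := by
        rw [← c4, hact, m0_facts.2.2.1, sv_two]
      have c5 : ι (sv 5) = t * (b * ι (g0 0) * b⁻¹) := by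
        rw [← c4, htd, ← map_mul]; congr 1
      rcases hw with rfl | rfl | rfl | rfl | rfl
      · simp only [eval_cons, eval_nil, e1, mul_one]
        rw [← hu7]; simp [pow_succ, mul_assoc]
      · simp only [eval_cons, eval_nil, e1, e2, e3, e4, mul_one]
        calc b * (u * (b⁻¹ * (u⁻¹ * u⁻¹))) = (b * u * b⁻¹) * (u ^ 2)⁻¹ := by group
          _ = 1 := by rw [hbu, mul_inv_cancel]
      · simp only [eval_cons, eval_nil, e1, e2, e3, e4, e6, e7, e8, mul_one]
        calc u * (t * (u⁻¹ * (b * ((ι (g0 0))⁻¹ * (b⁻¹ * t⁻¹))))) =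
            (u * t * u⁻¹) * (t * (b * ι (g0 0) * b⁻¹))⁻¹ := by group
          _ = 1 := by rw [ct, c5, mul_inv_cancel]
      · simp only [eval_cons, eval_nil, e1, e2, e5, e8, mul_one]
        calc u * (ι (g0 0) * (u⁻¹ * t⁻¹)) = (u * ι (g0 0) * u⁻¹) * t⁻¹ := by group
          _ = 1 := by rw [ca, mul_inv_cancel]
      · simp only [eval_cons, eval_nil, e1, e2, e3, e4, e5, e6, mul_one]
        calc u * (b * (ι (g0 0) * (b⁻¹ * (u⁻¹ * (ι (g0 0))⁻¹)))) =
            (u * (b * ι (g0 0) * b⁻¹) * u⁻¹) * (ι (g0 0))⁻¹ := by group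
          _ = 1 := by rw [ca2, mul_inv_cancel]
  have hcases : ∃ (ρw : List ℕ) (v : Fin 8), (v = 5 ∨ v = 4) ∧ (∀ w ∈ phiWords ++ chiWords, ρw ++ w ++ winv ρw ∈ caseWords ++ threeWords) ∧
      (eval g ρw * t * (eval g ρw)⁻¹) * y = y * (eval g ρw * t * (eval g ρw)⁻¹) ∧
      (eval g ρw)⁻¹ * t * eval g ρw = ι (sv v) := by
    have hcen : ∀ z, (ι z)⁻¹ * t * ι z = t := fun z => by
      rw [htd, ← map_inv, ← map_mul, ← map_mul]
      congr 1
      rw [mul_assoc, ← central_t z, inv_mul_cancel_left]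
    rcases hσ with h | h
    · refine ⟨hR ++ [9], 5, Or.inl rfl, by decide, ?_, ?_⟩
      · have e : eval g (hR ++ [9]) = ι (eval g0 hR) * u⁻¹ := by
          rw [eval_append, hev hR (by decide)]; simp [L, hg, Setup.gen, D']
        have e' : u⁻¹ * t * u = ι (g0 0) := by
          rw [← sv_one] at htd
          calc u⁻¹ * t * u = u⁻¹ * (u * ι (g0 0) * u⁻¹) * u := by
                rw [htd, ← sv_two, hact, m0_facts.1]
            _ = ι (g0 0) := by group
        rw [e]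
        have e2 : ι (eval g0 hR) * u⁻¹ * t * (ι (eval g0 hR) * u⁻¹)⁻¹ = r := by
          calc ι (eval g0 hR) * u⁻¹ * t * (ι (eval g0 hR) * u⁻¹)⁻¹ =
              ι (eval g0 hR) * (u⁻¹ * t * u) * (ι (eval g0 hR))⁻¹ := by group
            _ = r := by rw [e', hrd, ← map_inv, ← map_mul, ← map_mul, hR_ok]
        rw [e2]
        exact comm_of_conj h
      · have e : eval g (hR ++ [9]) = ι (eval g0 hR) * u⁻¹ := by
          rw [eval_append, hev hR (by decide)]; simp [L, hg, Setup.gen, D']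
        rw [e]
        calc (ι (eval g0 hR) * u⁻¹)⁻¹ * t * (ι (eval g0 hR) * u⁻¹) =
            u * ((ι (eval g0 hR))⁻¹ * t * ι (eval g0 hR)) * u⁻¹ := by group
          _ = ι (sv 5) := by rw [hcen, htd, ← sv_one, hact, m0_facts.2.1]
    · refine ⟨hRT ++ [8, 8], 4, Or.inr rfl, by decide, ?_, ?_⟩
      · have e : eval g (hRT ++ [8, 8]) = ι (eval g0 hRT) * u ^ 2 := by
          rw [eval_append, hev hRT (by decide)]; simp [L, hg, Setup.gen, D', pow_two]
        rw [e]
        have e2 : ι (eval g0 hRT) * u ^ 2 * t * (ι (eval g0 hRT) * u ^ 2)⁻¹ = r * t := by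
          calc ι (eval g0 hRT) * u ^ 2 * t * (ι (eval g0 hRT) * u ^ 2)⁻¹ =
              ι (eval g0 hRT) * (u ^ 2 * t * (u ^ 2)⁻¹) * (ι (eval g0 hRT))⁻¹ := by group
            _ = r * t := by
              rw [htd, ← sv_one, hit, m0_facts.2.2.2.1, ← map_inv, ← map_mul, ← map_mul, hRT_ok,
                map_mul, sv_one]
        rw [e2]
        exact comm_of_conj h
      · have e : eval g (hRT ++ [8, 8]) = ι (eval g0 hRT) * u ^ 2 := by
          rw [eval_append, hev hRT (by decide)]; simp [L, hg, Setup.gen, D', pow_two]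
        rw [e]
        have h5 : (u ^ 2)⁻¹ = u ^ 5 := inv_eq_of_mul_eq_one_right (by rw [← pow_add, hu7])
        calc (ι (eval g0 hRT) * u ^ 2)⁻¹ * t * (ι (eval g0 hRT) * u ^ 2) =
            (u ^ 2)⁻¹ * ((ι (eval g0 hRT))⁻¹ * t * ι (eval g0 hRT)) * ((u ^ 2)⁻¹)⁻¹ := by group
          _ = ι (sv 4) := by rw [hcen, h5, htd, ← sv_one, hit, m0_facts.2.2.2.2.1]
  obtain ⟨ρw, v, hv, hρc, hρy, hρT⟩ := hcases
  set c := eval g ρw with hc
  -- pull `y` back into the centraliser of `t`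
  set φ := c⁻¹ * y * c with hφ
  have hφC : φ ∈ centralizer ({t} : Set G) := by
    rw [mem_cent_iff]
    calc c⁻¹ * y * c * t = c⁻¹ * (y * (c * t * c⁻¹)) * c := by group
      _ = c⁻¹ * ((c * t * c⁻¹) * y) * c := by rw [hρy]
      _ = t * (c⁻¹ * y * c) := by group
  obtain ⟨z, hz⟩ : φ ∈ ι.range := by rw [hr]; exact hφC
  have hz5 : orderOf z = q := by
    rw [← orderOf_injective ι hι, hz, hφ,
      show c⁻¹ * y * c = MulAut.conj c⁻¹ y by simp, MulEquiv.orderOf_eq, hy]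
  have hinv : sv v * z * (sv v)⁻¹ = z⁻¹ := hι (by
    rw [map_mul, map_mul, map_inv, map_inv, hz, ← hρT, hφ]
    calc c⁻¹ * t * c * (c⁻¹ * y * c) * (c⁻¹ * t * c)⁻¹ = c⁻¹ * (t * y * t⁻¹) * c := by group
      _ = (c⁻¹ * y * c)⁻¹ := by rw [hty]; group)
  have hN168 : Nat.card (normalizer ((sImage ι : Subgroup G) : Set G)) = 168 := normalizer_card D D'
  obtain ⟨i, w, hw, hi⟩ : ∃ i : ℕ, ∃ w ∈ phiWords ++ chiWords, z ^ i = eval g0 w := by
    have hz1 : z ≠ 1 := fun e => by rw [e, orderOf_one] at hz5; omega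
    have hzq : z ^ q = 1 := orderOf_dvd_iff_pow_eq_one.1 (dvd_of_eq hz5)
    rcases hq with rfl | rfl
    · obtain ⟨i, w, hw, hi⟩ := three_inverted v hv z hzq hz1 hinv
      exact ⟨i, w, List.mem_append_right _ hw, hi⟩
    · obtain ⟨i, w, hw, hi⟩ := five_inverted v hv z hzq hz1 hinv
      exact ⟨i, w, List.mem_append_left _ hw, hi⟩
  have hwlt : ∀ x ∈ w, x < 8 := (by decide : ∀ q ∈ phiWords ++ chiWords, ∀ x ∈ q, x < 8) w hw
  have hcw : ∀ x ∈ ρw ++ w ++ winv ρw, x < 10 :=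
    (by decide : ∀ q ∈ caseWords ++ threeWords, ∀ x ∈ q, x < 10) _ (hρc w hw)
  have hfw : eval g (ρw ++ w ++ winv ρw) = y ^ i := by
    rw [eval_append, eval_append, eval_winv g (fun x hx => hcw x (by simp [hx])), hev w hwlt, ← hi,
      map_pow, hz, hφ, ← hc]
    rw [show c⁻¹ * y * c = c⁻¹ * y * c⁻¹⁻¹ by rw [inv_inv], conj_pow]
    group
  have hextra : eval g (caseRel (ρw ++ w ++ winv ρw)) = 1 := by
    unfold caseRel
    rw [eval_append, eval_append, eval_append, eval_winv g hcw, hfw]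
    have hcom : Commute (y ^ i) b := (show Commute y b from hyb).pow_left _
    simp only [eval_cons, eval_nil, mul_one]
    show y ^ i * b * (y ^ i)⁻¹ * b⁻¹ = 1
    rw [hcom.eq]; group
  set S := sImage ι
  have hSK : S ≤ cosetGroup g := by
    rintro _ ⟨v, rfl⟩
    rw [← hsv]
    have hmem : ∀ x ∈ svWord v, x = 0 ∨ x = 2 ∨ x = 3 ∨ x = 6 := by revert v; decide +kernel
    revert hmem
    generalize svWord v = l
    induction l with
    | nil => intro _; simp [one_mem]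
    | cons x l ih =>
      intro hmem
      rw [eval_cons]
      refine mul_mem ?_ (ih fun y hy => hmem y (List.mem_cons_of_mem x hy))
      rcases hmem x (List.mem_cons_self ..) with rfl | rfl | rfl | rfl
      · exact subset_closure (by simp [L])
      · exact subset_closure (by simp [L])
      · exact inv_mem (subset_closure (by simp))
      · exact subset_closure (by simp [L])
  have hKN : cosetGroup g ≤ normalizer ((S : Subgroup G) : Set G) := by
    have key : ∀ x : G, (∀ v, ∃ w, x * ι (sv v) * x⁻¹ = ι (sv w)) → x ∈ normalizer ((S : Subgroup G) : Set G) := by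
      intro x hx
      rw [mem_normalizer_iff_map_conj_eq]
      refine eq_of_le_of_card_ge ?_ (by rw [card_map_of_injective (MulAut.conj x).injective])
      rintro _ ⟨_, ⟨v, rfl⟩, rfl⟩
      obtain ⟨w, hw⟩ := hx v
      exact ⟨w, hw.symm⟩
    rw [cosetGroup, closure_le]
    rintro _ (rfl | rfl | rfl | rfl)
    · refine le_normalizer ⟨2, ?_⟩
      rw [sv_two]; rfl
    · refine key _ fun v => ⟨beta v, ?_⟩
      show b * ι (sv v) * b⁻¹ = _
      rw [hb, ← map_inv, ← map_mul, ← map_mul, beta_ok]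
    · refine le_normalizer ⟨1, ?_⟩
      rw [sv_one]; rfl
    · exact key _ fun v => ⟨m0 v, hact v⟩
  have hbK : b ∈ cosetGroup g := subset_closure (by simp [hg, Setup.gen, D', hb])
  have huK : u ∈ cosetGroup g := subset_closure (by simp [hg, Setup.gen, D'])
  have h8K : 8 ∣ Nat.card (cosetGroup g) := card_sImage hι ▸ card_dvd_of_le hSK
  have hK : Nat.card (cosetGroup g) = 168 := by
    refine Nat.dvd_antisymm (hN168 ▸ card_dvd_of_le hKN) ?_
    have h3 := orderOf_dvd_card_of_mem hbK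
    have h7 := orderOf_dvd_card_of_mem huK
    rw [hb3] at h3
    rw [hu] at h7
    exact Nat.Coprime.mul_dvd_of_dvd_of_dvd (by norm_num : Nat.Coprime 24 7)
      (Nat.Coprime.mul_dvd_of_dvd_of_dvd (by norm_num : Nat.Coprime 8 3) h8K h3) h7
  have hrK : r ∉ cosetGroup g := by
    intro h
    refine r_moves fun v => ?_
    obtain ⟨w, hw⟩ := (mem_normalizer_iff.1 (hKN h) (ι (sv v))).1 ⟨v, rfl⟩
    exact ⟨w, hι (by rw [hw, hrd, map_mul, map_mul, map_inv])⟩
  refine ⟨⟨g, hbase, ⟨_, hρc w hw, hextra⟩, hK, hrK, ?_, hT⟩⟩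
  intro x hx
  by_contra hx1
  have hgX : ∀ i < 5, g i ∈ closure (g '' {i | i < 5}) := fun i hi => subset_closure ⟨i, hi, rfl⟩
  have hrX : r ∈ closure (g '' {i | i < 5}) := hgX 2 (by norm_num)
  have huX : u ∈ closure (g '' {i | i < 5}) := hgX 4 (by norm_num)
  have hKX : cosetGroup g ≤ closure (g '' {i | i < 5}) := by
    rw [cosetGroup, closure_le]
    rintro _ (rfl | rfl | rfl | rfl)
    · exact hgX 0 (by norm_num)
    · exact hgX 1 (by norm_num)
    · exact hgX 3 (by norm_num)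
    · exact hgX 4 (by norm_num)
  let N : Subgroup G :=
    { carrier := {z | ∀ a ∈ closure (g '' {i | i < 5}), a * z * a⁻¹ ∈ cosetGroup g}
      one_mem' := fun a _ => by simp [one_mem]
      mul_mem' := fun {p q} hp hq a ha => by
        rw [show a * (p * q) * a⁻¹ = a * p * a⁻¹ * (a * q * a⁻¹) by group]
        exact mul_mem (hp a ha) (hq a ha)
      inv_mem' := fun {p} hp a ha => by
        rw [show a * p⁻¹ * a⁻¹ = (a * p * a⁻¹)⁻¹ by group]
        exact inv_mem (hp a ha) }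
  have hNconj : ∀ z ∈ N, ∀ c ∈ closure (g '' {i | i < 5}), c * z * c⁻¹ ∈ N := fun z hz c hc a ha => by
    rw [show a * (c * z * c⁻¹) * a⁻¹ = a * c * z * (a * c)⁻¹ by group]
    exact hz _ (mul_mem ha hc)
  have hNK : ∀ z ∈ N, z ∈ cosetGroup g := fun z hz => by simpa using hz 1 (one_mem _)
  have hxK := hNK x hx
  -- a nontrivial element in both `N` and `S`
  obtain ⟨v, hv0, hvN⟩ : ∃ v : Fin 8, v ≠ 0 ∧ ι (sv v) ∈ N := by
    by_cases hcx : ∀ v, x * ι (sv v) = ι (sv v) * x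
    · obtain ⟨z, rfl⟩ : x ∈ ι.range := by
        rw [hr, htd, ← sv_one, mem_cent_iff]; exact hcx 1
      have hz : ∀ v, z * sv v = sv v * z := fun v => hι (by rw [map_mul, map_mul]; exact hcx v)
      obtain ⟨v, rfl⟩ := cent_sv z (by rw [← sv_one]; exact hz 1) (by rw [← sv_two]; exact hz 2) (hz 4)
      exact ⟨v, fun h => hx1 (by rw [h, show sv 0 = 1 from rfl, map_one]), hx⟩
    · push Not at hcx
      obtain ⟨w₀, hw₀⟩ := hcx
      obtain ⟨w₁, hw₁⟩ := (mem_normalizer_iff.1 (hKN hxK) (ι (sv w₀))).1 ⟨w₀, rfl⟩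
      refine ⟨vadd w₁ w₀, fun h0 => hw₀ ?_, ?_⟩
      · have e : ι (sv (vadd w₁ w₀)) = 1 := by rw [h0, show sv 0 = 1 from rfl, map_one]
        rw [sv_add, map_mul, hw₁] at e
        have e2 := eq_inv_of_mul_eq_one_left e
        rw [inv_eq_of_mul_eq_one_right (sImage_mul_self (ι := ι) (x := ι (sv w₀)) ⟨w₀, rfl⟩)] at e2
        exact mul_inv_eq_iff_eq_mul.1 e2
      · rw [sv_add, map_mul, hw₁,
          show x * ι (sv w₀) * x⁻¹ * ι (sv w₀) = x * (ι (sv w₀) * x⁻¹ * (ι (sv w₀))⁻¹) by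
            rw [inv_eq_of_mul_eq_one_right (sImage_mul_self (ι := ι) (x := ι (sv w₀)) ⟨w₀, rfl⟩)]; group]
        exact mul_mem hx (hNconj _ (inv_mem hx) _ (hKX (hSK ⟨w₀, rfl⟩)))
  -- hence all of `S`
  have hSN : ∀ w, ι (sv w) ∈ N := by
    intro w
    by_cases hw0 : w = 0
    · rw [hw0, show sv 0 = 1 from rfl, map_one]; exact one_mem N
    · obtain ⟨j, hj⟩ := (by decide +kernel :
        ∀ v w : Fin 8, v ≠ 0 → w ≠ 0 → ∃ j : Fin 7, m0^[j.val] v = w) v w hv0 hw0
      rw [← hj, ← hit]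
      exact hNconj _ hvN _ (pow_mem huX _)
  -- so `r` normalises `S`
  have hS8 : ((sImage ι).subgroupOf (cosetGroup g)).index = 21 := by
    have h := ((sImage ι).subgroupOf (cosetGroup g)).card_mul_index
    rw [Nat.card_congr (subgroupOfEquivOfLe hSK).toEquiv, card_sImage hι, hK] at h
    omega
  haveI : ((sImage ι).subgroupOf (cosetGroup g)).Normal := normal_subgroupOf_of_le_normalizer hKN
  refine r_moves fun v => ?_
  have hk : r * ι (sv v) * r⁻¹ ∈ cosetGroup g := hSN v r hrX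
  have h21 := ((sImage ι).subgroupOf (cosetGroup g)).pow_index_mem ⟨_, hk⟩
  rw [hS8] at h21
  have hsq : (r * ι (sv v) * r⁻¹) ^ 2 = 1 := by
    rw [conj_pow, pow_two, sImage_mul_self ⟨v, rfl⟩]; group
  have h1 : (r * ι (sv v) * r⁻¹) ^ 21 ∈ sImage ι := h21
  rw [show 21 = 2 * 10 + 1 from rfl, pow_succ, pow_mul, hsq, one_pow, one_mul] at h1
  obtain ⟨w₂, hw₂⟩ := h1
  exact ⟨w₂, hι (by rw [hw₂, hrd, map_mul, map_mul, map_inv])⟩

end Cfsg.Agent.J1Cent38
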