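import Cfsg.Agent.J1Cent38.Three

/-!
A simple group of order 175560 has no subgroup of odd order as large as its set of involutions.
-/

set_option autoImplicit false
set_option linter.style.haveILetI false

namespace Cfsg.Agent.J1Cent38

open Subgroup J1Order38

theorem divisor_list (m : ℕ) (hd : m ∣ 21945) (h : 1463 ≤ m) :
    m = 1463 ∨ m = 1995 ∨ m = 3135 ∨ m = 4389 ∨ m = 7315 ∨ m = 21945 := by
  obtain ⟨k, hk⟩ := hd
  have hk15 : k ≤ 15 := by nlinarith
  interval_cases k <;> omega

theorem odd_small {X : Type*} [Group X] [Finite X] [IsSimpleGroup X] (hX : Nat.card X = 175560)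
    (D : Subgroup X) (hodd : ¬ 2 ∣ Nat.card D) : Nat.card D ≤ 1462 := by
  by_contra hlt
  push Not at hlt
  have hd : Nat.card D ∣ 21945 := by
    have h : Nat.card D ∣ 8 * 21945 := by
      have := card_subgroup_dvd_card D
      rwa [hX] at this
    refine (Nat.Coprime.dvd_of_dvd_mul_left ?_ h)
    show Nat.Coprime (Nat.card D) (2 ^ 3)
    exact (Nat.prime_two.coprime_iff_not_dvd.2 hodd).symm.pow_right 3
  have hmem := divisor_list _ hd (by omega)
  by_cases h7 : 7 ∣ Nat.card D
  · haveI := Fact.mk (by norm_num : Nat.Prime 7)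
    obtain ⟨z, hzD, hz⟩ := exists_orderOf_prime (r := 7) D h7
    have hsq : ¬ 7 ^ 2 ∣ Nat.card D := fun h => by
      have := h.trans hd; norm_num at this
    obtain ⟨hc, hm⟩ := count_in D hsq hzD hz
    have hN : Nat.card (D ⊓ normalizer ((zpowers z : Subgroup X) : Set X) : Subgroup X) ∣ 42 :=
      (seven_data hX hz).1 ▸ card_dvd_of_le inf_le_right
    have h7N : 7 ∣ Nat.card (D ⊓ normalizer ((zpowers z : Subgroup X) : Set X) : Subgroup X) := by
      rw [← hz]
      exact orderOf_dvd_card_mem
        (H := D ⊓ normalizer ((zpowers z : Subgroup X) : Set X)) ⟨hzD, le_normalizer (mem_zpowers z)⟩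
    have hle := Nat.le_of_dvd (by norm_num) hN
    obtain ⟨k, hk⟩ := h7N
    rw [hk] at hc hN hle
    have hk6 : k ≤ 6 := by omega
    interval_cases k <;> omega
  · haveI := Fact.mk (by norm_num : Nat.Prime 5)
    have h5 : 5 ∣ Nat.card D := by omega
    obtain ⟨z, hzD, hz⟩ := exists_orderOf_prime (r := 5) D h5
    have hsq : ¬ 5 ^ 2 ∣ Nat.card D := fun h => by
      have := h.trans hd; norm_num at this
    obtain ⟨hc, hm⟩ := count_in D hsq hzD hz
    have hN : Nat.card (D ⊓ normalizer ((zpowers z : Subgroup X) : Set X) : Subgroup X) ∣ 60 :=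
      (five_data hX hz).1 ▸ card_dvd_of_le inf_le_right
    have h5N : 5 ∣ Nat.card (D ⊓ normalizer ((zpowers z : Subgroup X) : Set X) : Subgroup X) := by
      rw [← hz]
      exact orderOf_dvd_card_mem
        (H := D ⊓ normalizer ((zpowers z : Subgroup X) : Set X)) ⟨hzD, le_normalizer (mem_zpowers z)⟩
    have hle := Nat.le_of_dvd (by norm_num) hN
    obtain ⟨k, hk⟩ := h5N
    rw [hk] at hc hN hle
    have hk6 : k ≤ 12 := by omega
    interval_cases k <;> omega

end Cfsg.Agent.J1Cent38
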