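import Cfsg.Agent.J1Cent38.Embed
import Cfsg.Agent.J1Cent38.Odd
import Cfsg.Agent.J1Cent38.Three0
import Cfsg.Agent.J1Cent38.Three1
import Cfsg.Agent.J1Cent38.Three2
import Cfsg.Agent.J1Cent38.Three3

/-!
A simple group with Sylow 2-subgroups of order eight and an involution centraliser `C₂ × A₅` has
order 175560.
-/

set_option autoImplicit false
set_option linter.style.haveILetI false

namespace Cfsg.Agent.J1Cent38

open Subgroup J1Order38 Cert

variable {G : Type*} [Group G] [Finite G] [IsSimpleGroup G] (D : Hyp G)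
include D

theorem exists_sub : ∃ X : Subgroup G, IsSimpleGroup X ∧ Nat.card X = 175560 := by
  obtain ⟨⟨g, hb, ⟨w, hw, he⟩, -, hne, hcore, -⟩⟩ := gens D
  simp only [caseWords, threeWords, List.cons_append, List.nil_append, List.mem_cons,
    List.not_mem_nil, or_false] at hw
  rcases hw with rfl | rfl | rfl | rfl | rfl | rfl | rfl | rfl
  · exact absurd (Case0.r_mem hb he) hne
  · exact ⟨_, card_closure hb rfl he hne hcore⟩
  · exact absurd (Case2.r_mem hb he) hne
  · exact absurd (Case3.r_mem hb he) hne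
  · exact absurd (Three0.r_mem hb he) hne
  · exact absurd (Three1.r_mem hb he) hne
  · exact absurd (Three2.r_mem hb he) hne
  · exact absurd (Three3.r_mem hb he) hne

theorem isConj_iff_order (x : G) : IsConj D.t x ↔ orderOf x = 2 := by
  refine ⟨fun h => ?_, fun h => ?_⟩
  · obtain ⟨g, rfl⟩ := isConj_iff.1 h
    rw [show g * D.t * g⁻¹ = MulAut.conj g D.t from rfl, MulEquiv.orderOf_eq, D.ord]
  · obtain ⟨g, hg⟩ := conj_t D h
    exact isConj_iff.2 ⟨g, hg⟩

theorem card_involutions : Nat.card {x : G // orderOf x = 2} * 120 = Nat.card G := by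
  rw [← InvChar68.card_isConj_mul_card_centralizer D.t, cent_inv_card D D.ord]
  congr 1
  exact Nat.card_congr (Equiv.subtypeEquivRight fun x => (isConj_iff_order D x).symm)

theorem card_eq : Nat.card G = 175560 := by
  classical
  haveI : Fact (Nat.Prime 2) := ⟨Nat.prime_two⟩
  obtain ⟨X, hXs, hX⟩ := exists_sub D
  haveI := hXs
  by_cases htop : X = ⊤
  · rwa [htop, Subgroup.card_top] at hX
  exfalso
  -- the subgroup is strongly embedded
  have hcX : ∀ x : X, orderOf x = 2 → centralizer ({(x : G)} : Set G) ≤ X := by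
    intro x hx
    have hxG : orderOf (x : G) = 2 := by rwa [orderOf_coe]
    have hle : (centralizer ({x} : Set X)).map X.subtype ≤ centralizer ({(x : G)} : Set G) := by
      rintro _ ⟨c, hc, rfl⟩
      exact mem_cent_iff.2 (congrArg Subtype.val (mem_cent_iff.1 hc))
    have he := eq_of_le_of_card_ge hle (by
      rw [card_map_of_injective X.subtype_injective, J1Order38.cent_inv_card hX hx, cent_inv_card D hxG])
    rw [← he]
    exact map_subtype_le _
  have key : ∀ x : X, orderOf x = 2 → ∀ g : G, g * (x : G) * g⁻¹ ∈ X → g ∈ X := by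
    intro x hx g hg
    have hy : orderOf (⟨_, hg⟩ : X) = 2 := by
      rw [orderOf_mk, show g * (x : G) * g⁻¹ = MulAut.conj g (x : G) from rfl, MulEquiv.orderOf_eq,
        orderOf_coe, hx]
    obtain ⟨h, hh⟩ := J1Order38.conj_involutions hX hx hy
    have hh' : (h : G) * x * (h : G)⁻¹ = g * x * g⁻¹ := congrArg Subtype.val hh
    have hc : (h : G)⁻¹ * g ∈ centralizer ({(x : G)} : Set G) := by
      rw [mem_cent_iff]
      calc (h : G)⁻¹ * g * x = (h : G)⁻¹ * (g * x * g⁻¹) * g := by group
        _ = (h : G)⁻¹ * ((h : G) * x * (h : G)⁻¹) * g := by rw [hh']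
        _ = x * ((h : G)⁻¹ * g) := by group
    have := mul_mem h.2 (hcX x hx hc)
    rwa [mul_inv_cancel_left] at this
  -- involutions in a coset
  haveI : Fintype (G ⧸ X) := Fintype.ofFinite _
  haveI : Fintype {x : G // orderOf x = 2} := Fintype.ofFinite _
  let I := (Finset.univ : Finset {x : G // orderOf x = 2})
  let f : {x : G // orderOf x = 2} → G ⧸ X := fun x => QuotientGroup.mk x.1
  let one : G ⧸ X := QuotientGroup.mk 1
  have hfib : ∀ q ≠ one, (I.filter fun x => f x = q).card ≤ 1462 := by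
    intro q hq
    by_cases hne : (I.filter fun x => f x = q).Nonempty
    swap
    · rw [Finset.not_nonempty_iff_eq_empty.1 hne]; simp
    obtain ⟨i₀, hi₀⟩ := hne
    have hi₀' : f i₀ = q := (Finset.mem_filter.1 hi₀).2
    have hi₀X : (i₀ : G) ∉ X := fun h => hq (by
      rw [← hi₀']
      show (QuotientGroup.mk (i₀ : G) : G ⧸ X) = QuotientGroup.mk 1
      rw [QuotientGroup.eq, mul_one]
      exact inv_mem h)
    have hsq : ∀ x : {x : G // orderOf x = 2}, (x : G) * x = 1 := fun x => by
      rw [← pow_two]; exact orderOf_dvd_iff_pow_eq_one.1 (dvd_of_eq x.2)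
    let E : Subgroup X := (X.map (MulAut.conj (i₀ : G)).toMonoidHom).subgroupOf X
    have hodd : ¬ 2 ∣ Nat.card E := by
      intro h2
      obtain ⟨x, hxE, hx⟩ := exists_orderOf_prime (r := 2) E h2
      obtain ⟨y, hy, hyx⟩ := hxE
      have hyo : orderOf (⟨y, hy⟩ : X) = 2 := by
        rw [orderOf_mk, ← hx, ← orderOf_coe x, ← show MulAut.conj (i₀ : G) y = (x : G) from hyx,
          MulEquiv.orderOf_eq]
      exact hi₀X (key ⟨y, hy⟩ hyo i₀ (by
        rw [show (i₀ : G) * y * (i₀ : G)⁻¹ = (x : G) from hyx]; exact x.2))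
    refine le_trans ?_ (odd_small hX E hodd)
    rw [← Nat.card_eq_finsetCard]
    have hmem : ∀ x : {x // x ∈ I.filter fun x => f x = q}, (i₀ : G)⁻¹ * x.1 ∈ X := fun x =>
      QuotientGroup.eq.1 (hi₀'.trans (Finset.mem_filter.1 x.2).2.symm)
    have hmem' : ∀ x : {x // x ∈ I.filter fun x => f x = q},
        (⟨_, hmem x⟩ : X) ∈ E := by
      intro x
      refine ⟨((i₀ : G)⁻¹ * x.1)⁻¹, inv_mem (hmem x), ?_⟩
      show (i₀ : G) * ((i₀ : G)⁻¹ * x.1)⁻¹ * (i₀ : G)⁻¹ = (i₀ : G)⁻¹ * x.1
      calc (i₀ : G) * ((i₀ : G)⁻¹ * x.1)⁻¹ * (i₀ : G)⁻¹ = (i₀ : G) * (x.1 : G)⁻¹ := by group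
        _ = (i₀ : G)⁻¹ * x.1 := by
          rw [inv_eq_of_mul_eq_one_right (hsq x.1), inv_eq_of_mul_eq_one_right (hsq i₀)]
    refine Nat.card_le_card_of_injective (fun x => (⟨⟨_, hmem x⟩, hmem' x⟩ : E)) fun x y h => ?_
    exact Subtype.ext (Subtype.ext (mul_left_cancel (congrArg (fun z : E => ((z : X) : G)) h :)))
  have hin : (I.filter fun x => f x = one).card = 1463 := by
    rw [← Nat.card_eq_finsetCard]
    have h := InvChar68.card_isConj_mul_card_centralizer (G := X)
    obtain ⟨t, ht⟩ := exists_prime_orderOf_dvd_card' (G := X) 2 (by rw [hX]; norm_num)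
    have h' := h t
    rw [J1Order38.cent_inv_card hX ht, hX] at h'
    have h1463 : Nat.card {y : X // IsConj t y} = 1463 := by omega
    rw [← h1463]
    have hxX : ∀ x : {x // x ∈ I.filter fun x => f x = one}, (x.1 : G) ∈ X := fun x => by
      have h := QuotientGroup.eq.1 (Finset.mem_filter.1 x.2).2
      rw [mul_one] at h
      exact inv_mem_iff.1 h
    refine Nat.card_congr
      { toFun := fun x => ⟨⟨x.1.1, hxX x⟩, ?_⟩
        invFun := fun y => ⟨⟨(y.1 : G), ?_⟩, ?_⟩
        left_inv := fun x => rfl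
        right_inv := fun y => rfl }
    · obtain ⟨g, hg⟩ := J1Order38.conj_involutions hX ht
        (b := ⟨x.1.1, hxX x⟩) (by rw [orderOf_mk]; exact x.1.2)
      exact isConj_iff.2 ⟨g, hg⟩
    · obtain ⟨g, hg⟩ := isConj_iff.1 y.2
      rw [orderOf_coe, ← hg, show g * t * g⁻¹ = MulAut.conj g t from rfl, MulEquiv.orderOf_eq, ht]
    · refine Finset.mem_filter.2 ⟨Finset.mem_univ _, ?_⟩
      show (QuotientGroup.mk (y.1 : G) : G ⧸ X) = QuotientGroup.mk 1
      rw [QuotientGroup.eq, mul_one]
      exact inv_mem y.1.2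
  have htot : I.card = 1463 * Fintype.card (G ⧸ X) := by
    have h1 := card_involutions D
    have h2 := X.card_eq_card_quotient_mul_card_subgroup
    rw [hX, Nat.card_eq_fintype_card (α := G ⧸ X)] at h2
    rw [Nat.card_eq_fintype_card] at h1
    show Fintype.card {x : G // orderOf x = 2} = _
    omega
  have hsum := Finset.card_eq_sum_card_fiberwise (f := f) (s := I) (t := Finset.univ)
    (fun x _ => Finset.mem_univ _)
  rw [← Finset.add_sum_erase _ _ (Finset.mem_univ one), hin] at hsum
  have hle := Finset.sum_le_card_nsmul ((Finset.univ : Finset (G ⧸ X)).erase one)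
    (fun q => (I.filter fun x => f x = q).card) 1462 fun q hq => hfib q (Finset.mem_erase.1 hq).1
  rw [smul_eq_mul, Finset.card_erase_of_mem (Finset.mem_univ _), Finset.card_univ] at hle
  have hn : 2 ≤ Fintype.card (G ⧸ X) := by
    rw [← Nat.card_eq_fintype_card]
    have := Subgroup.one_lt_index_of_ne_top (H := X) htop
    exact this
  omega

end Cfsg.Agent.J1Cent38
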