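import Cfsg.Agent.J1Cent38.Char
import Cfsg.Agent.J1Cent38.Gens

/-!
The case of a centraliser of order six is impossible.
-/

set_option autoImplicit false
set_option linter.style.haveILetI false

namespace Cfsg.Agent.J1Cent38

open Subgroup J1Order38 J1Order38.Model Cert

variable {G : Type*} [Group G] [Finite G]

theorem sylow29_check : ∀ j : Fin 145, 4200 % (29 * j.val + 1) = 0 → j.val = 0 ∨ j.val = 1 ∨ j.val = 6 := by
  decide +kernel

theorem sylow29_count (n : ℕ) (h : n < 4201) (hd : 4200 % n = 0) (hm : n % 29 = 1) :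
    n = 1 ∨ n = 30 ∨ n = 175 := by
  have h1 : 29 * (n / 29) + 1 = n := by omega
  have := sylow29_check ⟨n / 29, by omega⟩ (by simp only; rw [h1]; exact hd)
  simp only at this
  omega

theorem cube_one : ∀ i : ZMod 29, i ^ 3 = 1 → i = 1 := by decide +kernel

variable [IsSimpleGroup G] (D : Hyp G)
include D

theorem sq_one_two {T : Sylow 2 G} {x : G} (hx : x ∈ (T : Subgroup G)) : x * x = 1 := by
  haveI : Fact (Nat.Prime 2) := ⟨Nat.prime_two⟩
  obtain ⟨T₀, hT₀⟩ := D.exists_sylow
  obtain ⟨g, hg⟩ := MulAction.exists_smul_eq G T T₀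
  have h1 : MulAut.conj g • x ∈ (T₀ : Subgroup G) := by
    rw [← hg]; exact Subgroup.smul_mem_pointwise_smul _ (MulAut.conj g) _ hx
  have h2 := sImage_mul_self (hT₀.le h1)
  rw [MulAut.smul_def, MulAut.conj_apply] at h2
  have h3 : g * (x * x) * g⁻¹ = 1 := by rw [← h2]; group
  exact conj_eq_one_iff.1 h3

theorem not_card_121800 (hG : Nat.card G = 121800) {b : G} (hb : orderOf b = 3)
    (hC : Nat.card (centralizer ({b} : Set G)) = 6) : False := by
  classical
  haveI := Fact.mk (by norm_num : Nat.Prime 29)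
  haveI := Fact.mk (by norm_num : Nat.Prime 3)
  haveI : Fact (Nat.Prime 2) := ⟨Nat.prime_two⟩
  obtain ⟨z, hz⟩ := exists_prime_orderOf_dvd_card' (G := G) 29 (by rw [hG]; norm_num)
  have hno : ∀ w : G, orderOf w = 2 → w * z ≠ z * w := fun w hw h => by
    have h1 := orderOf_dvd_card_mem (H := centralizer ({w} : Set G)) (x := z) (mem_cent_iff.2 h.symm)
    rw [cent_inv_card D hw, hz] at h1
    norm_num at h1
  obtain ⟨P, hP⟩ := exists_sylow_zpowers (r := 29) (by rw [hG]; norm_num) hz
  have hmod : Nat.card (Sylow 29 G) % 29 = 1 := card_sylow_modEq_one 29 G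
  have hdvd : Nat.card (Sylow 29 G) ∣ 4200 := by
    have h := (P : Subgroup G).card_mul_index
    rw [hG, hP, Nat.card_zpowers, hz] at h
    have hi : (P : Subgroup G).index = 4200 := by rw [hP]; omega
    exact hi ▸ P.card_dvd_index
  have hn := sylow29_count _ (Nat.lt_succ_of_le (Nat.le_of_dvd (by norm_num) hdvd))
    (Nat.mod_eq_zero_of_dvd hdvd) hmod
  set N := normalizer ((zpowers z : Subgroup G) : Set G) with hN
  have hNc : Nat.card N * Nat.card (Sylow 29 G) = 121800 := by
    rw [← hG, hN, ← hP, P.card_eq_index_normalizer]; exact card_mul_index _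
  rcases hn with h1 | h30 | h175
  · rw [h1, mul_one] at hNc
    have htop : N = ⊤ := eq_top_of_card_eq N (by rw [hNc, hG])
    rcases IsSimpleGroup.eq_bot_or_eq_top_of_normal (zpowers z) (normalizer_eq_top_iff.1 htop) with h | h
    · rw [zpowers_eq_bot] at h; rw [h, orderOf_one] at hz; omega
    · have := congrArg (fun H : Subgroup G => Nat.card H) h
      simp only [Nat.card_zpowers, hz, Subgroup.card_top, hG] at this
      omega
  · rw [h30] at hNc
    obtain ⟨Q, hQ⟩ := Sylow.exists_subgroup_card_pow_prime (G := N) 2 (n := 2) (by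
      rw [show Nat.card N = 4060 by omega]; norm_num)
    obtain ⟨T, hT⟩ := ((IsPGroup.of_card (n := 2) hQ).map N.subtype).exists_le_sylow
    have hsq : ∀ x : Q, ((x : N) : G) * (x : N) = 1 := fun x => sq_one_two D (hT ⟨x, x.2, rfl⟩)
    have hord : ∀ x : Q, x ≠ 1 → orderOf ((x : N) : G) = 2 := fun x hx =>
      orderOf_eq_prime (by rw [pow_two, hsq x]) fun h => hx (Subtype.ext (Subtype.ext h))
    have hinv : ∀ x : Q, x ≠ 1 → ((x : N) : G) * z * ((x : N) : G)⁻¹ = z⁻¹ := fun x hx =>
      (inv_or_inverts (hord x hx) (x : N).2 29 (by norm_num) hz).resolve_left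
        fun h => hno _ (hord x hx) (mul_inv_eq_iff_eq_mul.1 h)
    haveI := Fintype.ofFinite Q
    obtain ⟨x, hx, y, hy, hxy⟩ : ∃ x : Q, x ≠ 1 ∧ ∃ y : Q, y ≠ 1 ∧ x ≠ y := by
      have h3 : 1 < ((Finset.univ : Finset Q).erase 1).card := by
        rw [Finset.card_erase_of_mem (Finset.mem_univ _), Finset.card_univ, ← Nat.card_eq_fintype_card, hQ]
        norm_num
      obtain ⟨x, hx, y, hy, hne⟩ := Finset.one_lt_card.1 h3
      exact ⟨x, (Finset.mem_erase.1 hx).1, y, (Finset.mem_erase.1 hy).1, hne⟩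
    have hxy1 : x * y ≠ 1 := by
      intro h
      refine hxy ?_
      rw [eq_inv_of_mul_eq_one_left h]
      exact inv_eq_of_mul_eq_one_right (Subtype.ext (Subtype.ext (hsq y)))
    refine hno _ (hord _ hxy1) (mul_inv_eq_iff_eq_mul.1 ?_)
    show ((x : N) : G) * (y : N) * z * (((x : N) : G) * (y : N))⁻¹ = z
    calc ((x : N) : G) * (y : N) * z * (((x : N) : G) * (y : N))⁻¹ =
        ((x : N) : G) * (((y : N) : G) * z * ((y : N) : G)⁻¹) * ((x : N) : G)⁻¹ := by group
      _ = (((x : N) : G) * z * ((x : N) : G)⁻¹)⁻¹ := by rw [hinv y hy]; group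
      _ = z := by rw [hinv x hx, inv_inv]
  · rw [h175] at hNc
    obtain ⟨x, hxN, hx⟩ := exists_orderOf_prime (r := 3) N (by rw [show Nat.card N = 696 by omega]; norm_num)
    obtain ⟨i, hi⟩ := mem_zpowers_iff.1 ((mem_normalizer_iff.1 hxN z).1 (mem_zpowers z))
    have h3 : z ^ (i * i * i) = z := by
      have hs : ∀ j : ℤ, x * z ^ j * x⁻¹ = z ^ (i * j) := fun j => by
        rw [zpow_mul, hi]; exact map_zpow (MulAut.conj x) z j
      calc z ^ (i * i * i) = x * (x * (x * z * x⁻¹) * x⁻¹) * x⁻¹ := by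
            rw [← hi, hs, hs, mul_assoc]
        _ = x ^ 3 * z * (x ^ 3)⁻¹ := by simp [pow_succ, mul_assoc]
        _ = z := by rw [← hx, pow_orderOf_eq_one]; group
    have hd : (29 : ℤ) ∣ i * i * i - 1 := by
      rw [show (29 : ℤ) = ((orderOf z : ℕ) : ℤ) by rw [hz]; rfl]
      refine orderOf_dvd_iff_zpow_eq_one.2 ?_
      rw [zpow_sub, h3, zpow_one, mul_inv_cancel]
    have hi1 : ((i : ZMod 29)) = 1 := cube_one _ (by
      have := (ZMod.intCast_zmod_eq_zero_iff_dvd (i * i * i - 1) 29).2 hd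
      push_cast at this
      linear_combination this)
    have hzx : x * z * x⁻¹ = z := by
      rw [← hi]
      have : (29 : ℤ) ∣ i - 1 := (ZMod.intCast_zmod_eq_zero_iff_dvd (i - 1) 29).1 (by push_cast; rw [hi1, sub_self])
      rw [show (29 : ℤ) = ((orderOf z : ℕ) : ℤ) by rw [hz]; rfl] at this
      calc z ^ i = z ^ (i - 1) * z := by rw [← zpow_add_one]; ring_nf
        _ = z := by rw [orderOf_dvd_iff_zpow_eq_one.1 this, one_mul]
    obtain ⟨Pb, hPb⟩ := exists_sylow_zpowers (r := 3) (by rw [hG]; norm_num) hb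
    obtain ⟨g, hg⟩ := Transfer.exists_conj_mem_sylow Pb (x := x) (k := 1) (by rw [hx, pow_one])
    rw [hPb] at hg
    have hgC : g * z * g⁻¹ ∈ centralizer ({b} : Set G) := by
      have hx' : g * x * g⁻¹ = b ∨ g * x * g⁻¹ = b⁻¹ := by
        obtain ⟨k, hk⟩ := hg
        have hb3 : b ^ (3 : ℤ) = 1 := by
          rw [show (3 : ℤ) = ((orderOf b : ℕ) : ℤ) by rw [hb]; rfl, zpow_natCast, pow_orderOf_eq_one]
        have hk' : g * x * g⁻¹ = b ^ (k % 3) := by
          rw [← hk]
          show b ^ k = _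
          conv_lhs => rw [← Int.emod_add_mul_ediv k 3, zpow_add, zpow_mul, hb3, one_zpow, mul_one]
        have h0 := Int.emod_nonneg k (show (3 : ℤ) ≠ 0 by norm_num)
        have h4 := Int.emod_lt_of_pos k (show (0 : ℤ) < 3 by norm_num)
        interval_cases hk3 : k % 3
        · rw [zpow_zero, conj_eq_one_iff] at hk'
          rw [hk', orderOf_one] at hx
          omega
        · exact Or.inl (by rw [hk', zpow_one])
        · refine Or.inr (hk'.trans (eq_inv_of_mul_eq_one_left ?_))
          rw [← zpow_add_one]; exact hb3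
      have hcomm : Commute (g * z * g⁻¹) (g * x * g⁻¹) := by
        show _ * _ = _ * _
        have := mul_inv_eq_iff_eq_mul.1 hzx
        calc g * z * g⁻¹ * (g * x * g⁻¹) = g * (z * x) * g⁻¹ := by group
          _ = g * (x * z) * g⁻¹ := by rw [this]
          _ = g * x * g⁻¹ * (g * z * g⁻¹) := by group
      rcases hx' with h | h
      · rw [h] at hcomm; exact mem_cent_iff.2 hcomm
      · rw [h, Commute.inv_right_iff] at hcomm; exact mem_cent_iff.2 hcomm
    have h29 := orderOf_dvd_card_mem hgC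
    rw [hC, show g * z * g⁻¹ = MulAut.conj g z from rfl, MulEquiv.orderOf_eq, hz] at h29
    norm_num at h29

/-- Some centraliser of an element of order three is larger. -/
theorem gens : Nonempty (CGens G) := by
  classical
  haveI := Fact.mk (by norm_num : Nat.Prime 3)
  haveI : Fact (Nat.Prime 2) := ⟨Nat.prime_two⟩
  rcases gens_or_six D with ⟨b, t, r, hb, ht, htb, hrb, hrt, hC⟩ | h
  swap
  · exact h
  exfalso
  -- make the inverting element an involution
  obtain ⟨T, hT⟩ := D.exists_sylow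
  have h8 : 8 ∣ Nat.card G := by
    rw [← card_sImage D.ι_injective]; exact card_subgroup_dvd_card _
  have h7 : 7 ∣ Nat.card G := by
    have h := card_subgroup_dvd_card (normalizer ((sImage D.ι : Subgroup G) : Set G))
    rw [D.normalizer_sImage.1] at h
    exact (by norm_num : 7 ∣ 168).trans h
  have h120 : 120 ∣ Nat.card G := cent_inv_card D ht ▸ card_subgroup_dvd_card _
  have h840 : 840 ∣ Nat.card G := by omega
  have h16 : ¬ 16 ∣ Nat.card G := by
    intro h
    have hi : ¬ 2 ∣ (T : Subgroup G).index := T.not_dvd_index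
    have h2 := (T : Subgroup G).card_mul_index
    rw [D.two T] at h2
    omega
  have h9 : ¬ 9 ∣ Nat.card G := by
    intro h
    obtain ⟨P, hP⟩ := (IsPGroup.of_card (n := 1) (by rw [Nat.card_zpowers, hb, pow_one]) :
      IsPGroup 3 (zpowers b)).exists_le_sylow
    obtain ⟨Q, hQc⟩ := Sylow.exists_subgroup_card_pow_prime (G := G) 3 (n := 2) h
    obtain ⟨P', hP'⟩ := (IsPGroup.of_card (n := 2) hQc).exists_le_sylow
    obtain ⟨k, hk⟩ := IsPGroup.iff_card.1 P.2
    have h9P : 9 ∣ Nat.card (P : Subgroup G) := by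
      rw [show Nat.card (P : Subgroup G) = Nat.card (P' : Subgroup G) by
        rw [P.card_eq_multiplicity, P'.card_eq_multiplicity]]
      have := card_dvd_of_le hP'
      rwa [hQc] at this
    have hnt : Nontrivial (P : Subgroup G) := Finite.one_lt_card_iff_nontrivial.1
      (lt_of_lt_of_le (by norm_num) (Nat.le_of_dvd Nat.card_pos h9P))
    haveI := hnt
    obtain ⟨⟨z, hzP⟩, hzc, hz1⟩ : ∃ z : (P : Subgroup G), z ∈ center (P : Subgroup G) ∧ z ≠ 1 := by
      have := P.2.center_nontrivial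
      obtain ⟨⟨z, hz⟩, hne⟩ := exists_ne (1 : center (P : Subgroup G))
      exact ⟨z, hz, fun h => hne (Subtype.ext h)⟩
    have hbP : b ∈ (P : Subgroup G) := hP (mem_zpowers b)
    have hzb : z ∈ centralizer ({b} : Set G) := mem_cent_iff.2
      (congrArg Subtype.val (mem_center_iff.1 hzc ⟨b, hbP⟩)).symm
    by_cases hzz : z ∈ zpowers b
    · -- then `b` is central in `P`
      have hbc : (P : Subgroup G) ≤ centralizer ({b} : Set G) := by
        have hbz : b ∈ zpowers z := by
          have hzb' : zpowers z = zpowers b := eq_of_le_of_card_ge (zpowers_le.2 hzz) (by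
            rw [Nat.card_zpowers, Nat.card_zpowers, hb]
            rcases (Nat.dvd_prime (by norm_num : Nat.Prime 3)).1
              (hb ▸ orderOf_dvd_of_mem_zpowers hzz) with h' | h'
            · exact absurd (Subtype.ext (orderOf_eq_one_iff.1 h')) hz1
            · omega)
          rw [hzb']; exact mem_zpowers b
        intro p hp
        obtain ⟨i, rfl⟩ := mem_zpowers_iff.1 hbz
        exact mem_cent_iff.2 ((show Commute p z from congrArg Subtype.val (mem_center_iff.1 hzc ⟨p, hp⟩)).zpow_right i)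
      have := h9P.trans (card_dvd_of_le hbc)
      rw [hC] at this
      norm_num at this
    · set A := zpowers b ⊔ zpowers z
      have hAP : A ≤ (P : Subgroup G) := sup_le (zpowers_le.2 hbP) (zpowers_le.2 hzP)
      have hAC : A ≤ centralizer ({b} : Set G) := sup_le (zpowers_le.2 (self_mem_cent b)) (zpowers_le.2 hzb)
      obtain ⟨j, hj⟩ := IsPGroup.iff_card.1 (P.2.to_le hAP)
      have h6 := card_dvd_of_le hAC
      rw [hC, hj] at h6
      have hlt : 3 < Nat.card A := by
        rw [← hb, ← Nat.card_zpowers]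
        refine lt_of_le_of_ne (Nat.le_of_dvd Nat.card_pos (card_dvd_of_le le_sup_left)) fun h' => hzz ?_
        rw [eq_of_le_of_card_ge (le_sup_left : zpowers b ≤ A) h'.ge]
        exact mem_sup_right (mem_zpowers z)
      rw [hj] at hlt
      rcases j with _ | _ | j
      · norm_num at hlt
      · norm_num at hlt
      · have : 9 ∣ 6 := (Dvd.intro_left (3 ^ j) (by ring : 3 ^ j * 9 = 3 ^ (j + 1 + 1))).trans h6
        norm_num at this
  -- an involution inverting `b` and commuting with `t`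
  have hCw : ∀ c ∈ centralizer ({b} : Set G), c ^ 6 = 1 := fun c hc =>
    orderOf_dvd_iff_pow_eq_one.1 (hC ▸ orderOf_dvd_card_mem hc)
  obtain ⟨k, m, hm, hk⟩ : ∃ k m : ℕ, Odd m ∧ orderOf r = 2 ^ k * m :=
    Nat.exists_eq_two_pow_mul_odd (orderOf_pos r).ne'
  set r' := r ^ m with hr'
  have hr'k : r' ^ 2 ^ k = 1 := by
    rw [hr', ← pow_mul, mul_comm, ← hk, pow_orderOf_eq_one]
  have hr'2 : r' * r' = 1 := by
    obtain ⟨T', hT'⟩ := (IsPGroup.of_card (n := Nat.log 2 (orderOf r')) (by
      obtain ⟨j, -, hj⟩ := (Nat.dvd_prime_pow Nat.prime_two).1 (orderOf_dvd_of_pow_eq_one hr'k)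
      rw [Nat.card_zpowers, hj, Nat.log_pow (by norm_num)]) : IsPGroup 2 (zpowers r')).exists_le_sylow
    exact sq_one_two D (hT' (mem_zpowers r'))
  have hr'b : r' * b * r'⁻¹ = b⁻¹ := by
    have hsq : r ^ 2 * b * (r ^ 2)⁻¹ = b := by
      calc r ^ 2 * b * (r ^ 2)⁻¹ = r * (r * b * r⁻¹) * r⁻¹ := by simp [pow_two, mul_assoc]
        _ = r * b⁻¹ * r⁻¹ := by rw [hrb]
        _ = (r * b * r⁻¹)⁻¹ := by group
        _ = b := by rw [hrb, inv_inv]
    obtain ⟨l, hl⟩ := hm
    have hcom : Commute (r ^ 2) b := mul_inv_eq_iff_eq_mul.1 hsq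
    calc r' * b * r'⁻¹ = r * ((r ^ 2) ^ l * b * ((r ^ 2) ^ l)⁻¹) * r⁻¹ := by
          rw [hr', hl, ← pow_mul, pow_succ']; group
      _ = b⁻¹ := by rw [(hcom.pow_left l).eq, mul_inv_cancel_right, hrb]
  have hr't : r' * t = t * r' := (show Commute r t from hrt).pow_left m
  refine not_card_121800 D ?_ hb hC
  refine card_eq_of_six hb ht htb hr'b hr't hr'2 hC ?_ (cent_inv_card D ht) h840 h16 h9
  intro x hx
  obtain ⟨g, hg⟩ := conj_t D ht
  obtain ⟨g', hg'⟩ := conj_t D hx
  exact (isConj_iff.2 ⟨g, hg⟩ : IsConj D.t t).symm.trans (isConj_iff.2 ⟨g', hg'⟩)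

end Cfsg.Agent.J1Cent38
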