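import Cfsg.Agent.J1Cent38.Setup
import Cfsg.Agent.J1Order38.Three

/-!
The centraliser of an element of order three: either of order six, or with an element of order
three or five centralised by one of two given involutions.
-/

set_option autoImplicit false
set_option linter.style.haveILetI false

namespace Cfsg.Agent.J1Cent38

open Subgroup J1Order38 J1Order38.Model Cert

set_option synthInstance.maxSize 4000

set_option maxRecDepth 100000 in
theorem cent_gb_card : Nat.card {z : HM // z * g0 1 = g0 1 * z} = 6 := by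
  rw [Nat.card_eq_fintype_card]
  decide +kernel

set_option maxRecDepth 100000 in
theorem cent_gb_fix : ∀ z : HM, z * g0 1 = g0 1 * z →
    (z * g0 2 = g0 2 * z ∨ z * (g0 2 * g0 3) = (g0 2 * g0 3) * z) → z ^ 3 = 1 → z = 1 := by
  decide +kernel

set_option maxRecDepth 100000 in
theorem cent_gb_pow : ∀ z : HM, z * g0 1 = g0 1 * z → z ^ 6 = 1 := by decide +kernel

variable {G : Type*} [Group G] [Finite G]

omit [Finite G] in
theorem orderOf_dvd_card_mem {H : Subgroup G} {x : G} (h : x ∈ H) : orderOf x ∣ Nat.card H := by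
  rw [← orderOf_mk x h]
  exact _root_.orderOf_dvd_natCard _

omit [Finite G] in
theorem conj_self_inv {w : G} (hw : w * w = 1) (x : G) : w * (w * x * w⁻¹) * w⁻¹ = x := by
  calc w * (w * x * w⁻¹) * w⁻¹ = (w * w) * x * (w * w)⁻¹ := by group
    _ = x := by rw [hw]; group

/-- An involution acting without fixed points inverts. -/
theorem inverts_of_fpf {F : Subgroup G} {w : G} (hw : w * w = 1) (hF : ∀ x ∈ F, w * x * w⁻¹ ∈ F)
    (h1 : ∀ x ∈ F, w * x * w⁻¹ = x → x = 1) : ∀ x ∈ F, w * x * w⁻¹ = x⁻¹ := by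
  intro x hx
  let φ : F →* F :=
    { toFun := fun x => ⟨w * x * w⁻¹, hF x x.2⟩
      map_one' := Subtype.ext (by simp)
      map_mul' := fun a b => Subtype.ext (by simp [mul_assoc]) }
  have hφ : MonoidHom.FixedPointFree φ := fun a ha => Subtype.ext (h1 a a.2 (congrArg Subtype.val ha))
  have h := hφ.coe_eq_inv_of_involutive (fun a => Subtype.ext (conj_self_inv hw a))
  exact congrArg Subtype.val (congrFun h ⟨x, hx⟩)

variable [IsSimpleGroup G] (D : Hyp G)
include D

theorem cent_b (S : Setup G) :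
    Nat.card (centralizer ({S.ι (g0 1)} : Set G)) = 6 ∨
    ∃ y : G, ∃ q : ℕ, (q = 3 ∨ q = 5) ∧ orderOf y = q ∧ y * S.ι (g0 1) = S.ι (g0 1) * y ∧
      S.ι (g0 3) * y * (S.ι (g0 3))⁻¹ = y⁻¹ ∧
      (S.ι (g0 2) * y * (S.ι (g0 2))⁻¹ = y ∨
        S.ι (g0 2) * S.ι (g0 3) * y * (S.ι (g0 2) * S.ι (g0 3))⁻¹ = y) := by
  classical
  haveI : Fact (Nat.Prime 2) := ⟨Nat.prime_two⟩
  set ι := S.ι
  have hι := S.inj
  set b := ι (g0 1) with hb
  set r := ι (g0 2) with hrd
  set t := ι (g0 3) with htd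
  set C := centralizer ({b} : Set G) with hC
  have hrange : ∀ x : G, x * t = t * x → ∃ z, ι z = x := fun x hx => by
    have h : x ∈ ι.range := by rw [S.range]; exact mem_cent_iff.2 hx
    exact h
  have htb : t * b = b * t := by rw [htd, hb, ← map_mul, ← map_mul, g0_orders.2.2.2.2.1]
  have htC : t ∈ C := mem_cent_iff.2 htb
  have hrb : r * b * r⁻¹ = b⁻¹ := by
    rw [hrd, hb, ← map_inv, ← map_inv, ← map_mul, ← map_mul, g0_orders.2.2.1]
  have hrt : r * t = t * r := by rw [hrd, htd, ← map_mul, ← map_mul, g0_orders.2.2.2.1]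
  have hr2 : r * r = 1 := by
    have h := relsH_ok [4, 4] (by decide)
    rw [hrd, ← map_mul]
    simp [L] at h
    rw [h, map_one]
  have ht2 : t * t = 1 := by
    rw [← pow_two, ← S.ordT]; exact pow_orderOf_eq_one t
  have hb3 : b ^ 3 = 1 := by
    rw [hb, ← map_pow, orderOf_dvd_iff_pow_eq_one.1 g0_orders.1, map_one]
  have hbne : b ≠ 1 := fun h => g0_orders.2.1 (hι (h.trans (map_one ι).symm))
  -- centraliser of `t` inside
  have hD6 : Nat.card (C ⊓ centralizer ({t} : Set G) : Subgroup G) = 6 := by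
    rw [← cent_gb_card]
    refine (Nat.card_congr (Equiv.ofBijective
      (fun z : {z : HM // z * g0 1 = g0 1 * z} => (⟨ι z.1, ?_, ?_⟩ : (C ⊓ centralizer ({t} : Set G) : Subgroup G)))
      ⟨?_, ?_⟩)).symm
    · exact mem_cent_iff.2 (by rw [hb, ← map_mul, ← map_mul, z.2])
    · exact S.range.le ⟨z.1, rfl⟩
    · intro z z' h
      exact Subtype.ext (hι (congrArg (fun x : (C ⊓ centralizer ({t} : Set G) : Subgroup G) => (x : G)) h :))
    · rintro ⟨x, hxC, hxt⟩
      obtain ⟨z, rfl⟩ := hrange x (mem_cent_iff.1 hxt)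
      exact ⟨⟨z, hι (by rw [map_mul, map_mul]; exact mem_cent_iff.1 hxC)⟩, rfl⟩
  have hd6 : 6 ∣ Nat.card C := hD6 ▸ card_dvd_of_le inf_le_left
  -- a Sylow 2-subgroup of `C` has order two
  have ht' : IsPGroup 2 (zpowers (⟨t, htC⟩ : C)) :=
    IsPGroup.of_card (n := 1) (by rw [Nat.card_zpowers, orderOf_mk, S.ordT, pow_one])
  obtain ⟨P, hP⟩ := ht'.exists_le_sylow
  have hP2 : Nat.card (P : Subgroup C) = 2 := by
    obtain ⟨T, hT⟩ := (P.2.map C.subtype).exists_le_sylow
    obtain ⟨T₀, hT₀⟩ := D.exists_sylow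
    obtain ⟨g, hg⟩ := MulAction.exists_smul_eq G T T₀
    have hsq : ∀ x ∈ (P : Subgroup C), (x : G) * x = 1 := by
      intro x hx
      have h1 : MulAut.conj g • (x : G) ∈ (T₀ : Subgroup G) := by
        rw [← hg]; exact Subgroup.smul_mem_pointwise_smul _ (MulAut.conj g) _ (hT ⟨x, hx, rfl⟩)
      have h2 := sImage_mul_self (hT₀.le h1)
      rw [MulAut.smul_def, MulAut.conj_apply] at h2
      have h3 : g * ((x : G) * x) * g⁻¹ = 1 := by rw [← h2]; group
      exact conj_eq_one_iff.1 h3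
    have hle : (P : Subgroup C).map C.subtype ≤ C ⊓ centralizer ({t} : Set G) := by
      rintro _ ⟨x, hx, rfl⟩
      refine ⟨x.2, mem_cent_iff.2 ?_⟩
      have htP : (⟨t, htC⟩ : C) ∈ (P : Subgroup C) := hP (mem_zpowers _)
      have h := hsq _ (mul_mem hx htP)
      show (x : G) * t = t * x
      calc (x : G) * t = ((x : G) * t)⁻¹ := (inv_eq_of_mul_eq_one_right h).symm
        _ = t⁻¹ * (x : G)⁻¹ := mul_inv_rev _ _
        _ = t * x := by rw [inv_eq_of_mul_eq_one_right ht2, inv_eq_of_mul_eq_one_right (hsq x hx)]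
    have h6 := card_dvd_of_le hle
    rw [hD6, card_map_of_injective C.subtype_injective] at h6
    obtain ⟨k, hk⟩ := IsPGroup.iff_card.1 P.2
    have h2 : 2 ∣ Nat.card (P : Subgroup C) := by
      have := card_dvd_of_le hP
      rwa [Nat.card_zpowers, orderOf_mk, S.ordT] at this
    rw [hk] at h6 h2 ⊢
    rcases k with _ | _ | k
    · norm_num at h2
    · norm_num
    · exfalso
      have : 4 ∣ 6 := (Dvd.intro_left (2 ^ k) (by ring : 2 ^ k * 4 = 2 ^ (k + 1 + 1))).trans h6
      norm_num at this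
  have hmin : (Nat.card C).minFac = 2 := (Nat.minFac_eq_two_iff _).2 (Dvd.dvd.trans (by norm_num) hd6)
  have hPN : normalizer ((P : Subgroup C) : Set C) ≤ centralizer ((P : Subgroup C) : Set C) :=
    IsCyclic.normalizer_le_centralizer hmin (isCyclic_of_prime_card (p := 2) hP2)
  set M := (MonoidHom.transferSylow P hPN).ker with hM
  have hidx : M.index = 2 := (MonoidHom.ker_transferSylow_isComplement' P hPN).symm.index_eq_card.trans hP2
  have hModd : ¬ 2 ∣ Nat.card M := MonoidHom.not_dvd_card_ker_transferSylow P hPN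
  set Mg := M.map C.subtype with hMg
  have hmem : ∀ x, x ∈ Mg ↔ x ∈ C ∧ Odd (orderOf x) := by
    intro x
    constructor
    · rintro ⟨x, hx, rfl⟩
      refine ⟨x.2, ?_⟩
      rw [show C.subtype x = (x : G) from rfl, orderOf_coe, ← orderOf_mk x hx, Nat.odd_iff]
      have := (_root_.orderOf_dvd_natCard (⟨x, hx⟩ : M))
      by_contra h
      exact hModd ((Nat.dvd_of_mod_eq_zero (by omega)).trans this)
    · rintro ⟨hxC, hodd⟩
      refine ⟨⟨x, hxC⟩, ?_, rfl⟩
      obtain ⟨k, hk⟩ := hodd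
      have h2 : (⟨x, hxC⟩ : C) ^ 2 ∈ M := by
        have := M.pow_index_mem ⟨x, hxC⟩
        rwa [hidx] at this
      have he : (⟨x, hxC⟩ : C) = ((⟨x, hxC⟩ : C) ^ 2) ^ (k + 1) := by
        refine Subtype.ext ?_
        show x = (x ^ 2) ^ (k + 1)
        rw [← pow_mul, show 2 * (k + 1) = orderOf x + 1 by omega, pow_succ, pow_orderOf_eq_one, one_mul]
      rw [SetLike.mem_coe, he]
      exact pow_mem h2 _
  have hcardM : Nat.card Mg * 2 = Nat.card C := by
    rw [hMg, card_map_of_injective C.subtype_injective, ← hidx, M.card_mul_index]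
  by_cases h3 : Nat.card Mg = 3
  · exact Or.inl (by omega)
  right
  -- the four-group `⟨t, r⟩` normalises `Mg`
  have hnorm : ∀ w : G, (w * b * w⁻¹ = b ∨ w * b * w⁻¹ = b⁻¹) → ∀ x ∈ Mg, w * x * w⁻¹ ∈ Mg := by
    intro w hw x hx
    obtain ⟨hxC, hodd⟩ := (hmem x).1 hx
    have hxb : x * b = b * x := mem_cent_iff.1 hxC
    refine (hmem _).2 ⟨?_, ?_⟩
    · have h1 : Commute (w * x * w⁻¹) (w * b * w⁻¹) := by
        show _ * _ = _ * _
        calc w * x * w⁻¹ * (w * b * w⁻¹) = w * (x * b) * w⁻¹ := by group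
          _ = w * (b * x) * w⁻¹ := by rw [hxb]
          _ = w * b * w⁻¹ * (w * x * w⁻¹) := by group
      rcases hw with hw | hw
      · rw [hw] at h1; exact mem_cent_iff.2 h1
      · rw [hw, Commute.inv_right_iff] at h1; exact mem_cent_iff.2 h1
    · rwa [show w * x * w⁻¹ = MulAut.conj w x from rfl, MulEquiv.orderOf_eq]
  have htbc : t * b * t⁻¹ = b := by rw [htb, mul_inv_cancel_right]
  have hrtb : r * t * b * (r * t)⁻¹ = b⁻¹ := by
    calc r * t * b * (r * t)⁻¹ = r * (t * b * t⁻¹) * r⁻¹ := by group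
      _ = b⁻¹ := by rw [htbc, hrb]
  -- a fixed point of `r` or of `r t`
  have hσ : ∀ σ : G, (σ = r ∨ σ = r * t) →
      (∀ x ∈ Mg, σ * x * σ⁻¹ = x → x = 1) ∨ ∃ y : G, ∃ q : ℕ, (q = 3 ∨ q = 5) ∧ orderOf y = q ∧
        y * b = b * y ∧ t * y * t⁻¹ = y⁻¹ ∧ σ * y * σ⁻¹ = y := by
    intro σ hσ
    by_contra hcon
    rw [not_or] at hcon
    obtain ⟨hne, hno⟩ := hcon
    push Not at hne
    obtain ⟨x, hx, hfix, hx1⟩ := hne
    obtain ⟨hxC, hodd⟩ := (hmem x).1 hx
    have hσb : σ * b * σ⁻¹ = b⁻¹ := by rcases hσ with rfl | rfl; exacts [hrb, hrtb]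
    have hσt : σ * t = t * σ := by
      rcases hσ with rfl | rfl
      · exact hrt
      · rw [mul_assoc, ← mul_assoc t, ← hrt, mul_assoc]
    have hσ2 : σ * σ = 1 := by
      rcases hσ with rfl | rfl
      · exact hr2
      · calc r * t * (r * t) = r * (t * r) * t := by group
          _ = (r * r) * (t * t) := by rw [← hrt]; group
          _ = 1 := by rw [hr2, ht2, one_mul]
    have hσ1 : orderOf σ = 2 := orderOf_eq_prime (by rw [pow_two, hσ2]) fun h => by
      rw [h] at hσb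
      apply hbne
      have h2 : b * b = 1 := by
        nth_rewrite 2 [show b = (1 : G) * b * 1⁻¹ by group]
        rw [hσb, mul_inv_cancel]
      calc b = b ^ 3 * (b * b)⁻¹ := by group
        _ = 1 := by rw [hb3, h2]; group
    -- a prime order power
    obtain ⟨q, hq, hqd⟩ := Nat.exists_prime_and_dvd (n := orderOf x) (fun h => hx1 (orderOf_eq_one_iff.1 h))
    set y := x ^ (orderOf x / q) with hy
    have hyo : orderOf y = q := by
      rw [hy, orderOf_pow' _ (Nat.div_pos (Nat.le_of_dvd (orderOf_pos x) hqd) hq.pos).ne',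
        Nat.gcd_eq_right (Nat.div_dvd_of_dvd hqd), Nat.div_div_self hqd (orderOf_pos x).ne']
    have hyM : y ∈ Mg := pow_mem hx _
    have hyσ : σ * y * σ⁻¹ = y := by rw [hy, ← conj_pow, hfix]
    have hq35 : q = 3 ∨ q = 5 := by
      have h120 : q ∣ 120 := by
        rw [← cent_inv_card D hσ1, ← hyo]
        exact orderOf_dvd_card_mem
          (mem_cent_iff.2 (mul_inv_eq_iff_eq_mul.1 hyσ).symm)
      have hqne : q ≠ 2 := fun h => by
        rw [h] at hqd
        exact (Nat.not_even_iff_odd.2 hodd) (even_iff_two_dvd.2 hqd)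
      rw [show (120 : ℕ) = 2 ^ 3 * (3 * 5) by norm_num] at h120
      rcases hq.dvd_mul.1 h120 with h | h
      · exact absurd ((Nat.prime_dvd_prime_iff_eq hq Nat.prime_two).1 (hq.dvd_of_dvd_pow h)) hqne
      · exact (hq.dvd_mul.1 h).imp (Nat.prime_dvd_prime_iff_eq hq (by norm_num)).1
          (Nat.prime_dvd_prime_iff_eq hq (by norm_num)).1
    refine hno ⟨y, q, hq35, hyo, mem_cent_iff.1 ((hmem y).1 hyM).1, ?_, hyσ⟩
    -- `t` has no fixed point among the elements fixed by `σ`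
    let F : Subgroup G := Mg ⊓ centralizer ({σ} : Set G)
    have hF : ∀ z ∈ F, t * z * t⁻¹ = z⁻¹ := by
      refine inverts_of_fpf ht2 (fun z hz => ⟨hnorm t (Or.inl htbc) z hz.1, mem_cent_iff.2 ?_⟩) ?_
      · have h := mem_cent_iff.1 hz.2
        calc t * z * t⁻¹ * σ = t * (z * σ) * t⁻¹ := by
              rw [mul_assoc, show t⁻¹ * σ = σ * t⁻¹ from ((show Commute σ t from hσt).inv_right).eq.symm]
              group
          _ = t * (σ * z) * t⁻¹ := by rw [h]
          _ = σ * (t * z * t⁻¹) := by rw [← mul_assoc t, ← hσt]; group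
      · intro z hz hzt
        obtain ⟨w, rfl⟩ := hrange z (mul_inv_eq_iff_eq_mul.1 hzt).symm
        obtain ⟨hzC, hzodd⟩ := (hmem _).1 hz.1
        have hwb : w * g0 1 = g0 1 * w := hι (by rw [map_mul, map_mul]; exact mem_cent_iff.1 hzC)
        have hwσ : w * g0 2 = g0 2 * w ∨ w * (g0 2 * g0 3) = (g0 2 * g0 3) * w := by
          have h := mem_cent_iff.1 hz.2
          rcases hσ with rfl | rfl
          · exact Or.inl (hι (by rw [map_mul, map_mul]; exact h))
          · exact Or.inr (hι (by simp only [map_mul]; exact h))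
        rw [orderOf_injective ι hι] at hzodd
        have h6 : orderOf w ∣ 6 := orderOf_dvd_of_pow_eq_one (cent_gb_pow w hwb)
        have h3 : orderOf w ∣ 3 := by
          refine (Nat.Coprime.dvd_mul_left ?_).1 (show orderOf w ∣ 2 * 3 from h6)
          exact (Nat.prime_two.coprime_iff_not_dvd.2 fun h => (Nat.not_even_iff_odd.2 hzodd) (even_iff_two_dvd.2 h)).symm
        rw [cent_gb_fix w hwb hwσ (orderOf_dvd_iff_pow_eq_one.1 h3), map_one]
    exact hF y ⟨hyM, mem_cent_iff.2 (mul_inv_eq_iff_eq_mul.1 hyσ).symm⟩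
  rcases hσ r (Or.inl rfl) with h1 | ⟨y, q, a1, a2, a3, a4, a5⟩
  swap
  · exact ⟨y, q, a1, a2, a3, a4, Or.inl a5⟩
  rcases hσ (r * t) (Or.inr rfl) with h2 | ⟨y, q, a1, a2, a3, a4, a5⟩
  swap
  · exact ⟨y, q, a1, a2, a3, a4, Or.inr a5⟩
  exfalso
  have hr' := inverts_of_fpf hr2 (hnorm r (Or.inr hrb)) h1
  have hrt2 : r * t * (r * t) = 1 := by
    calc r * t * (r * t) = r * (t * r) * t := by group
      _ = (r * r) * (t * t) := by rw [← hrt]; group
      _ = 1 := by rw [hr2, ht2, one_mul]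
  have hrt' := inverts_of_fpf hrt2 (hnorm (r * t) (Or.inr hrtb)) h2
  have hle : Mg ≤ C ⊓ centralizer ({t} : Set G) := by
    intro x hx
    refine ⟨((hmem x).1 hx).1, mem_cent_iff.2 ?_⟩
    have e2 : t * x * t⁻¹ = x := by
      calc t * x * t⁻¹ = r⁻¹ * (r * t * x * (r * t)⁻¹) * r := by group
        _ = r⁻¹ * x⁻¹ * r := by rw [hrt' x hx]
        _ = r⁻¹ * (r * x * r⁻¹) * r := by rw [hr' x hx]
        _ = x := by group
    exact (mul_inv_eq_iff_eq_mul.1 e2).symm
  have h6 := card_dvd_of_le hle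
  rw [hD6] at h6
  have hle6 := Nat.le_of_dvd (by norm_num) h6
  have hodd' : Nat.card Mg % 2 = 1 := by
    rw [hMg, card_map_of_injective C.subtype_injective]
    omega
  obtain ⟨k, hk⟩ := hd6
  omega

end Cfsg.Agent.J1Cent38
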